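import Cfsg.Agent.Lib.Transfer.PrimePowOrbit.Core
import Cfsg.Agent.Lib.Block.PrimeDegreeModule
import Cfsg.Agent.S0675

/-!
No system of `p` blocks permuted by the Sylow subgroup.
-/

set_option autoImplicit false
set_option linter.unusedSectionVars false
set_option linter.style.haveILetI false

open scoped Classical

namespace Cfsg.Agent.PrimePowOrbit.Ctx

variable {q : ℕ} [Fact q.Prime] {p : ℕ} [hpF : Fact p.Prime]
variable {V : Type*} [AddCommGroup V] [Finite V] [Module (ZMod q) V]
variable {G : Type*} [Group G] [Finite G] [DistribMulAction G V] [FaithfulSMul G V] [SMulCommClass G (ZMod q) V]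
variable {P : Sylow p G}

/-- A nontrivial independent family of `p` subgroups cannot be permuted by the Sylow subgroup. -/
theorem no_blocks (h : Ctx q p V G P) {ι : Type} [Fintype ι] (hι : Fintype.card ι = p) (W : ι → AddSubgroup V)
    (hne : ∀ i, ∃ w ∈ W i, w ≠ 0) (hind : ∀ f : ι → V, (∀ i, f i ∈ W i) → ∑ i, f i = 0 → ∀ i, f i = 0)
    (hperm : ∀ s ∈ (P : Subgroup G), ∀ i, ∃ j, ∀ w ∈ W i, s • w ∈ W j) : False := by
  choose w hw hw0 using hne
  have two : ∀ {a : ι} {x : V}, x ∈ W a → ∀ i, (Pi.single a x : ι → V) i ∈ W i := by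
    intro a x hx i
    by_cases hia : i = a
    · subst hia; rwa [Pi.single_eq_same]
    · rw [Pi.single_eq_of_ne hia]; exact zero_mem _
  have uniq : ∀ f g : ι → V, (∀ i, f i ∈ W i) → (∀ i, g i ∈ W i) → ∑ i, f i = ∑ i, g i → f = g := by
    intro f g hf hg he
    funext i
    exact sub_eq_zero.mp (hind (f - g) (fun j => sub_mem (hf j) (hg j))
      (by rw [Finset.sum_congr rfl (fun j _ => Pi.sub_apply f g j), Finset.sum_sub_distrib, he, sub_self]) i)
  have single : ∀ {a b : ι} {x : V}, x ∈ W a → x ∈ W b → x ≠ 0 → a = b := by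
    intro a b x ha hb hx
    by_contra hab
    have := congrFun (uniq _ _ (two ha) (two hb) (by rw [Finset.sum_pi_single', Finset.sum_pi_single']; simp)) a
    rw [Pi.single_eq_same, Pi.single_eq_of_ne hab] at this
    exact hx this
  have pair : ∀ {a b c : ι} {x y : V}, a ≠ b → x ∈ W a → y ∈ W b → x ≠ 0 → y ≠ 0 → x + y ∉ W c := by
    intro a b c x y hab hx hy hx0 hy0 hc
    have he := uniq (Pi.single a x + Pi.single b y) (Pi.single c (x + y))
      (fun i => add_mem (two hx i) (two hy i)) (two hc)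
      (by simp [Finset.sum_add_distrib])
    by_cases hca : c = a
    · have := congrFun he b
      rw [Pi.add_apply, Pi.single_eq_same, Pi.single_eq_of_ne hab.symm, zero_add,
        Pi.single_eq_of_ne (hca ▸ hab.symm)] at this
      exact hy0 this
    · have := congrFun he a
      rw [Pi.add_apply, Pi.single_eq_same, Pi.single_eq_of_ne hab, add_zero, Pi.single_eq_of_ne (Ne.symm hca)] at this
      exact hx0 this
  have smul_ne : ∀ (g : G) {x : V}, x ≠ 0 → g • x ≠ 0 := fun g x hx h0 => hx (by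
    simpa [inv_smul_smul] using congrArg (fun t => g⁻¹ • t) h0)
  -- the permutation of a Sylow element
  have hP : ∀ s ∈ (P : Subgroup G), ∀ i j, i ≠ j → ∀ a b, s • w i ∈ W a → s • w j ∈ W b → a ≠ b := by
    intro s hs i j hij a b ha hb hab
    subst hab
    obtain ⟨k, hk⟩ := hperm s⁻¹ (inv_mem hs) a
    have h1 := hk _ ha
    have h2 := hk _ hb
    rw [inv_smul_smul] at h1 h2
    exact hij ((single (hw i) h1 (hw0 i)).trans (single (hw j) h2 (hw0 j)).symm)
  have hG : ∀ (g : G) i, ∃ j, ∀ x ∈ W i, g • x ∈ W j := by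
    intro g i
    have some_block : ∀ x ∈ W i, ∃ j, g • x ∈ W j := fun x hx => by
      obtain ⟨s, hs, hsx⟩ := h.orbit_eq g x
      obtain ⟨j, hj⟩ := hperm s hs i
      exact ⟨j, hsx ▸ hj x hx⟩
    obtain ⟨j, hj⟩ := some_block _ (hw i)
    refine ⟨j, fun x hx => ?_⟩
    by_contra hcon
    obtain ⟨k, hk⟩ := some_block x hx
    obtain ⟨l, hl⟩ := some_block _ (add_mem (hw i) hx)
    rw [smul_add] at hl
    have hx0 : x ≠ 0 := fun h0 => hcon (by rw [h0, smul_zero]; exact zero_mem _)
    exact pair (a := j) (b := k) (fun hjk => hcon (by rw [hjk]; exact hk)) hj hk (smul_ne g (hw0 i)) (smul_ne g hx0) hl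
  choose π hπ using hG
  have hmul : ∀ g g' i, π (g * g') i = π g (π g' i) := fun g g' i =>
    single (hπ (g * g') i _ (hw i)) (by rw [mul_smul]; exact hπ g _ _ (hπ g' i _ (hw i)))
      (smul_ne _ (hw0 i))
  have hone : ∀ i, π 1 i = i := fun i => single (hπ 1 i _ (hw i)) (by rw [one_smul]; exact hw i) (smul_ne _ (hw0 i))
  let φ : G →* Equiv.Perm ι :=
    { toFun := fun g => ⟨π g, π g⁻¹, fun i => by rw [← hmul, inv_mul_cancel, hone], fun i => by rw [← hmul, mul_inv_cancel, hone]⟩
      map_one' := Equiv.ext hone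
      map_mul' := fun g g' => Equiv.ext (hmul g g') }
  have hφ : ∀ g i, φ g i = π g i := fun _ _ => rfl
  obtain ⟨i₀, j₀, hij⟩ := Fintype.exists_pair_of_one_lt_card (α := ι) (hι ▸ hpF.out.one_lt)
  have htriv : ¬ ∀ g : G, φ g = 1 := by
    intro ht
    have hinv : W i₀ = ⊤ := h.bot_or_top_eq (W i₀) (fun s _ x hx => by
      have hfix : π s i₀ = i₀ := by rw [← hφ, ht s]; rfl
      have := hπ s i₀ x hx
      rwa [hfix] at this) (hw i₀) (hw0 i₀)
    exact hij (single (show w j₀ ∈ W i₀ from hinv ▸ AddSubgroup.mem_top _) (hw j₀) (hw0 j₀))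
  obtain ⟨Q, hQ⟩ : ∃ Q : Subgroup (Equiv.Perm ι), Q = (P : Subgroup G).map φ := ⟨_, rfl⟩
  have hQp : IsPGroup p Q := hQ ▸ P.isPGroup'.map φ
  obtain ⟨m, hm⟩ := hQp.exists_card_eq
  have hQd : p ^ m ∣ p.factorial := by
    have := Subgroup.card_subgroup_dvd_card Q
    rwa [hm, Nat.card_eq_fintype_card, Fintype.card_perm, hι] at this
  have hm1 : m ≤ 1 := by
    by_contra h2
    have h3 : p ^ 2 ∣ p * (p - 1).factorial := by
      rw [Nat.mul_factorial_pred hpF.out.ne_zero]
      exact (pow_dvd_pow p (by omega)).trans hQd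
    rw [pow_two] at h3
    have := hpF.out.dvd_factorial.mp (Nat.dvd_of_mul_dvd_mul_left hpF.out.pos h3)
    have := hpF.out.two_le
    omega
  have hm0 : m ≠ 0 := by
    intro h0
    apply htriv
    intro g
    refine Equiv.ext fun i => ?_
    obtain ⟨s, hs, hsw⟩ := h.orbit_eq g (w i)
    have h1 : φ s = 1 := by
      have : φ s ∈ Q := hQ ▸ Subgroup.mem_map_of_mem φ hs
      rw [Subgroup.card_eq_one.mp (show Nat.card Q = 1 by rw [hm, h0, pow_zero]), Subgroup.mem_bot] at this
      exact this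
    have h2 : π s i = i := by rw [← hφ, h1]; rfl
    exact single (hπ g i _ (hw i)) (by have h3 := hπ s i _ (hw i); rw [h2, ← hsw] at h3; exact h3) (smul_ne _ (hw0 i))
  have hQcard : Nat.card Q = p := by rw [hm, show m = 1 by omega, pow_one]
  -- transitivity
  obtain ⟨⟨σ, hσ⟩, hσo⟩ := exists_prime_orderOf_dvd_card' (G := Q) p (dvd_of_eq hQcard.symm)
  rw [← Subgroup.orderOf_coe] at hσo
  replace hσo : orderOf σ = p := hσo
  obtain ⟨a₀, ha₀⟩ : ∃ a, σ a ≠ a := by
    by_contra hall
    push Not at hall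
    rw [show σ = 1 from Equiv.ext hall, orderOf_one] at hσo
    exact hpF.out.one_lt.ne hσo
  have hσr : σ ∈ φ.range := by
    rw [hQ] at hσ
    obtain ⟨s, -, hs⟩ := hσ
    exact ⟨s, hs⟩
  have hcyc : σ.IsCycle := by
    refine Equiv.Perm.isCycle_of_prime_order' (hσo ▸ hpF.out) ?_
    rw [hι, hσo]
    have := hpF.out.pos
    omega
  have hsupp : ∀ a, σ a ≠ a := by
    intro a
    have h1 : σ.support = Finset.univ :=
      Finset.eq_univ_of_card _ (by rw [hι, ← hcyc.orderOf, hσo])
    exact Equiv.Perm.mem_support.mp (h1 ▸ Finset.mem_univ a)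
  haveI : MulAction.IsPretransitive φ.range ι := ⟨fun a b => by
    obtain ⟨n, hn⟩ := hcyc.exists_zpow_eq (hsupp a) (hsupp b)
    exact ⟨⟨σ ^ n, zpow_mem hσr n⟩, hn⟩⟩
  have hnsol : ¬ Group.IsSolvable φ.range := fun hs => htriv fun g => hom_trivial_of_perfect h.perfect φ hs g
  have h2t : MulAction.IsMultiplyPretransitive φ.range ι 2 :=
    ((Cfsg.Agent.S0675.result (hι ▸ hpF.out) φ.range)).resolve_left hnsol
  have hp3 : ¬ p ≤ 3 := fun h3 => hnsol (Cfsg.Agent.Block.isSolvable_of_card_le_three hι h3 φ.range)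
  -- the unordered pairs form one orbit of the Sylow image
  have hpairs : (Finset.univ.powersetCard 2 : Finset (Finset ι)) ⊆
      (Finset.univ : Finset Q).image (fun σ' : Q => ({(σ' : Equiv.Perm ι) i₀, (σ' : Equiv.Perm ι) j₀} : Finset ι)) := by
    intro S hS
    obtain ⟨a, b, hab, rfl⟩ := Finset.card_eq_two.mp (Finset.mem_powersetCard.mp hS).2
    obtain ⟨⟨τ, g, hgτ⟩, hga, hgb⟩ := MulAction.is_two_pretransitive_iff.mp h2t hij hab
    have hga' : π g i₀ = a := by rw [← hφ, hgτ]; exact hga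
    have hgb' : π g j₀ = b := by rw [← hφ, hgτ]; exact hgb
    obtain ⟨s, hs, hsv⟩ := h.orbit_eq g (w i₀ + w j₀)
    refine Finset.mem_image.mpr ⟨⟨φ s, hQ ▸ Subgroup.mem_map_of_mem φ hs⟩, Finset.mem_univ _, ?_⟩
    show ({π s i₀, π s j₀} : Finset ι) = {a, b}
    rw [smul_add, smul_add] at hsv
    have hca : g • w i₀ ∈ W a := hga' ▸ hπ g i₀ _ (hw i₀)
    have hcb : g • w j₀ ∈ W b := hgb' ▸ hπ g j₀ _ (hw j₀)
    have hsa := hπ s i₀ _ (hw i₀)
    have hsb := hπ s j₀ _ (hw j₀)
    have hne' : π s i₀ ≠ π s j₀ := hP s hs i₀ j₀ hij _ _ hsa hsb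
    have he := uniq (Pi.single a (g • w i₀) + Pi.single b (g • w j₀))
      (Pi.single (π s i₀) (s • w i₀) + Pi.single (π s j₀) (s • w j₀))
      (fun i => add_mem (two hca i) (two hcb i)) (fun i => add_mem (two hsa i) (two hsb i))
      (by simp [Finset.sum_add_distrib, hsv])
    refine Finset.eq_of_subset_of_card_le ?_ ?_
    · intro c hc
      simp only [Finset.mem_insert, Finset.mem_singleton] at hc ⊢
      by_contra hcon
      push Not at hcon
      have := congrFun he c
      rw [Pi.add_apply, Pi.add_apply, Pi.single_eq_of_ne hcon.1, Pi.single_eq_of_ne hcon.2, add_zero] at this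
      rcases hc with rfl | rfl
      · rw [Pi.single_eq_same, Pi.single_eq_of_ne hne', add_zero] at this
        exact smul_ne s (hw0 i₀) this.symm
      · rw [Pi.single_eq_same, Pi.single_eq_of_ne hne'.symm, zero_add] at this
        exact smul_ne s (hw0 j₀) this.symm
    · rw [Finset.card_pair hab, Finset.card_pair hne']
  have := (Finset.card_le_card hpairs).trans Finset.card_image_le
  rw [Finset.card_powersetCard, Finset.card_univ, Finset.card_univ, hι, ← Nat.card_eq_fintype_card, hQcard,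
    Nat.choose_two_right] at this
  have h5 : p * 3 ≤ p * (p - 1) := Nat.mul_le_mul_left p (by omega)
  omega

end Cfsg.Agent.PrimePowOrbit.Ctx
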