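import Mathlib
import Cfsg.Agent.Lib.Transfer.Kazarin

/-!
Linear groups in coprime characteristic all of whose orbits have `p`-power length: basic facts.
-/

set_option autoImplicit false
set_option linter.unusedSectionVars false
set_option linter.style.haveILetI false

open scoped commutatorElement

namespace Cfsg.Agent.PrimePowOrbit

section General

variable {G : Type*} [Group G]

/-- A perfect group has no nontrivial soluble image. -/
theorem hom_trivial_of_perfect (hperf : commutator G = ⊤) {H : Type*} [Group H] (f : G →* H)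
    (hsol : Group.IsSolvable f.range) (g : G) : f g = 1 := by
  by_contra hne
  haveI := hsol
  haveI : Nontrivial f.range := ⟨⟨⟨f g, g, rfl⟩, 1, fun h => hne (congrArg Subtype.val h)⟩⟩
  refine (Group.IsSolvable.commutator_lt_top_of_nontrivial f.range).ne ?_
  have h1 : (⊤ : Subgroup G).map f.rangeRestrict = ⊤ := by
    rw [← MonoidHom.range_eq_map]; exact MonoidHom.range_eq_top.mpr f.rangeRestrict_surjective
  rw [commutator_def, ← h1, ← Subgroup.map_commutator, ← commutator_def, hperf]

/-- A perfect group has no nontrivial abelian image. -/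
theorem hom_trivial_of_perfect_comm (hperf : commutator G = ⊤) {H : Type*} [Group H] (f : G →* H)
    (hcomm : ∀ g g', Commute (f g) (f g')) (g : G) : f g = 1 := by
  refine hom_trivial_of_perfect hperf f (Group.isSolvable_of_comm fun a b => Subtype.ext ?_) g
  obtain ⟨a', ha⟩ := a.2
  obtain ⟨b', hb⟩ := b.2
  show (a : H) * b = b * a
  rw [← ha, ← hb]
  exact hcomm a' b'

/-- A perfect group that is soluble is trivial. -/
theorem subsingleton_of_perfect_solvable (hperf : commutator G = ⊤) (hsol : Group.IsSolvable G) : Subsingleton G := by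
  refine subsingleton_of_forall_eq 1 fun g => ?_
  haveI := hsol
  haveI : Group.IsSolvable (MonoidHom.id G).range := inferInstance
  exact hom_trivial_of_perfect hperf (MonoidHom.id G) inferInstance g

end General

variable {q : ℕ} [Fact q.Prime] {p : ℕ} [Fact p.Prime]
variable {V : Type*} [AddCommGroup V] [Finite V] [Module (ZMod q) V]
variable {G : Type*} [Group G] [Finite G] [DistribMulAction G V] [FaithfulSMul G V] [SMulCommClass G (ZMod q) V]

/-- Every orbit has `p`-power length. -/
def PowOrbits (p : ℕ) (G V : Type*) [Group G] [MulAction G V] : Prop :=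
  ∀ v : V, ∃ k : ℕ, (MulAction.stabilizer G v).index = p ^ k

/-- A perfect counterexample with every proper normal subgroup soluble, irreducible for a Sylow subgroup. -/
structure Ctx (q p : ℕ) (V : Type*) [AddCommGroup V] (G : Type*) [Group G] [DistribMulAction G V] (P : Sylow p G) :
    Prop where
  pq : p ≠ q
  coprime : ¬ q ∣ Nat.card G
  orbits : PowOrbits p G V
  perfect : commutator G = ⊤
  nontrivial : Nontrivial G
  irred : ∀ W : AddSubgroup V, (∀ s ∈ (P : Subgroup G), ∀ w ∈ W, s • w ∈ W) → W = ⊥ ∨ W = ⊤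
  minimal : ∀ N : Subgroup G, N.Normal → N ≠ ⊤ → Group.IsSolvable N

namespace Ctx

variable {P : Sylow p G} (h : Ctx q p V G P)

include h

theorem orbit_eq (g : G) (v : V) : ∃ s ∈ (P : Subgroup G), g • v = s • v := by
  obtain ⟨k, hk⟩ := h.orbits v
  obtain ⟨s, hs, hsg⟩ := Transfer.Kazarin.exists_sylow_mem (MulAction.stabilizer G v) hk P g
  exact ⟨s, hs, by rw [MulAction.mem_stabilizer_iff, mul_smul, inv_smul_eq_iff] at hsg; exact hsg⟩

theorem not_solvable : ¬ Group.IsSolvable G := fun hsol => by
  haveI := h.nontrivial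
  exact not_subsingleton G (subsingleton_of_perfect_solvable h.perfect hsol)

theorem exists_ne_zero : ∃ v : V, v ≠ 0 := by
  by_contra hall
  push Not at hall
  haveI := h.nontrivial
  obtain ⟨g, hg⟩ := exists_ne (1 : G)
  exact hg (FaithfulSMul.eq_of_smul_eq_smul (α := V) fun v => by rw [hall v, smul_zero, smul_zero])

theorem bot_or_top_eq (W : AddSubgroup V) (hW : ∀ s ∈ (P : Subgroup G), ∀ w ∈ W, s • w ∈ W) {v : V} (hv : v ∈ W)
    (hv0 : v ≠ 0) : W = ⊤ :=
  (h.irred W hW).resolve_left fun hb => hv0 (AddSubgroup.mem_bot.mp (hb ▸ hv))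

theorem sylow_ne_bot : (P : Subgroup G) ≠ ⊥ := by
  intro hP
  haveI := h.nontrivial
  obtain ⟨g, hg⟩ := exists_ne (1 : G)
  refine hg (FaithfulSMul.eq_of_smul_eq_smul (α := V) fun v => ?_)
  obtain ⟨s, hs, hsv⟩ := h.orbit_eq g v
  rw [hsv, hP] at *
  rw [Subgroup.mem_bot.mp hs]

theorem exists_central : ∃ z ∈ (P : Subgroup G), orderOf z = p ∧ ∀ s ∈ (P : Subgroup G), Commute s z := by
  haveI : Nontrivial (P : Subgroup G) := (Subgroup.nontrivial_iff_ne_bot _).mpr h.sylow_ne_bot
  haveI := (P.isPGroup'.center_nontrivial)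
  have hd : p ∣ Nat.card (Subgroup.center (P : Subgroup G)) :=
    by
      obtain ⟨k, hk⟩ := (P.isPGroup'.to_subgroup (Subgroup.center (P : Subgroup G))).exists_card_eq
      have := Finite.one_lt_card (α := Subgroup.center (P : Subgroup G))
      rcases k with _ | k
      · rw [pow_zero] at hk
        omega
      · exact hk ▸ dvd_pow_self p (Nat.succ_ne_zero k)
  obtain ⟨⟨⟨z, hz⟩, hzc⟩, ho⟩ := exists_prime_orderOf_dvd_card' p hd
  rw [← Subgroup.orderOf_coe, ← Subgroup.orderOf_coe] at ho
  exact ⟨z, hz, ho, fun s hs => congrArg Subtype.val (Subgroup.mem_center_iff.mp hzc ⟨s, hs⟩)⟩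

/-- A nontrivial element commuting with the Sylow subgroup has no nonzero fixed point. -/
theorem fpf_of_central {z : G} (hz1 : z ≠ 1) (hzc : ∀ s ∈ (P : Subgroup G), Commute s z) {v : V} (hv : z • v = v) :
    v = 0 := by
  by_contra hv0
  let W : AddSubgroup V :=
    { carrier := {w | z • w = w}
      zero_mem' := smul_zero z
      add_mem' := fun {a b} ha hb => by show z • (a + b) = a + b; rw [smul_add, ha, hb]
      neg_mem' := fun {a} ha => by show z • (-a) = -a; rw [smul_neg, ha] }
  have hW : W = ⊤ := h.bot_or_top_eq W (fun s hs w hw => by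
    show z • s • w = s • w
    rw [← mul_smul, ← (hzc s hs).eq, mul_smul, show z • w = w from hw]) (v := v) hv hv0
  refine hz1 (FaithfulSMul.eq_of_smul_eq_smul (α := V) fun w => ?_)
  rw [one_smul]
  exact (hW ▸ AddSubgroup.mem_top w : w ∈ W)

theorem normal_coprime_bot {N : Subgroup G} (hN : N.Normal) (hNp : ¬ p ∣ Nat.card N) : N = ⊥ := by
  refine (Subgroup.eq_bot_iff_forall _).mpr fun n hn => FaithfulSMul.eq_of_smul_eq_smul (α := V) fun v => ?_
  obtain ⟨k, hk⟩ := h.orbits v
  have hle : N ≤ MulAction.stabilizer G v := Subgroup.relIndex_eq_one.mp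
    (Nat.eq_one_of_dvd_coprimes ((Fact.out : p.Prime).coprime_iff_not_dvd.mpr hNp |>.pow_left k)
      (hk ▸ Transfer.Kazarin.relIndex_dvd_index _ N) (Subgroup.index_dvd_card _))
  rw [one_smul]
  exact hle hn

/-- When a Sylow subgroup is cyclic, soluble normal subgroups are trivial. -/
theorem solvable_normal_bot (hcyc : IsCyclic (P : Subgroup G)) :
    ∀ (n : ℕ) (N : Subgroup G), Nat.card N ≤ n → N.Normal → Group.IsSolvable N → N = ⊥ := by
  classical
  intro n
  induction n with
  | zero => exact fun N hn => absurd hn (by have := Nat.card_pos (α := N); omega)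
  | succ n ih =>
    intro N hn hN hsol
    by_contra hne
    haveI := hN
    haveI : Nontrivial N := (Subgroup.nontrivial_iff_ne_bot _).mpr hne
    haveI := hsol
    have hcomm : ∀ x ∈ N, ∀ y ∈ N, Commute x y := by
      have hlt := Group.IsSolvable.commutator_lt_top_of_nontrivial (G := N)
      set C := (commutator N).map N.subtype
      have hC : C = ⊥ := by
        have hlt' : Nat.card C < Nat.card N := by
          have h1 : C < N := by
            have := (Subgroup.map_lt_map_iff_of_injective N.subtype_injective).mpr hlt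
            rwa [← MonoidHom.range_eq_map, Subgroup.range_subtype] at this
          rcases lt_or_eq_of_le (Subgroup.card_le_of_le h1.le) with h2 | h2
          · exact h2
          · exact absurd (Subgroup.eq_of_le_of_card_ge h1.le h2.ge) h1.ne
        refine ih C (by omega) inferInstance ?_
        exact Group.isSolvable_of_isSolvable_injective (f := Subgroup.inclusion (Subgroup.map_subtype_le _))
          (Subgroup.inclusion_injective _)
      intro x hx y hy
      have hm : ⁅x, y⁆ ∈ C := ⟨⁅⟨x, hx⟩, ⟨y, hy⟩⁆, Subgroup.commutator_mem_commutator (Subgroup.mem_top _) (Subgroup.mem_top _),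
        by rw [map_commutatorElement]; rfl⟩
      rw [hC, Subgroup.mem_bot, commutatorElement_eq_one_iff_commute] at hm
      exact hm
    obtain ⟨r, hr, hrd⟩ := Nat.exists_prime_and_dvd (n := Nat.card N) (by
      have := Finite.one_lt_card (α := N); omega)
    haveI := Fact.mk hr
    let M : Subgroup G :=
      { carrier := {x | x ∈ N ∧ x ^ r = 1}
        one_mem' := ⟨one_mem N, one_pow r⟩
        mul_mem' := fun {x y} hx hy => ⟨mul_mem hx.1 hy.1, by rw [(hcomm x hx.1 y hy.1).mul_pow, hx.2, hy.2, one_mul]⟩
        inv_mem' := fun {x} hx => ⟨inv_mem hx.1, by rw [inv_pow, hx.2, inv_one]⟩ }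
    haveI hMn : M.Normal := ⟨fun x hx g => ⟨hN.conj_mem x hx.1 g, by rw [conj_pow, hx.2, mul_one, mul_inv_cancel]⟩⟩
    have hMp : IsPGroup r M := fun x => ⟨1, Subtype.ext (by simpa using x.2.2)⟩
    obtain ⟨⟨x, hxN⟩, hxo⟩ := exists_prime_orderOf_dvd_card' r hrd
    rw [← Subgroup.orderOf_coe] at hxo
    replace hxo : orderOf x = r := hxo
    have hxM : x ∈ M := ⟨hxN, by simpa [hxo] using pow_orderOf_eq_one x⟩
    have hx1 : x ≠ 1 := fun h1 => by
      rw [h1] at hxo
      simp only [orderOf_one] at hxo
      exact hr.ne_one hxo.symm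
    by_cases hrp : r = p
    swap
    · have : M = ⊥ := h.normal_coprime_bot hMn fun hd => by
        obtain ⟨k, hk⟩ := hMp.exists_card_eq
        rw [hk] at hd
        exact hrp ((Nat.prime_dvd_prime_iff_eq Fact.out hr).mp ((Fact.out : p.Prime).dvd_of_dvd_pow hd)).symm
      exact hx1 (Subgroup.mem_bot.mp (this ▸ hxM))
    subst hrp
    have hMP : M ≤ (P : Subgroup G) := hMp.le_sylow_of_normal P
    haveI := hcyc
    haveI : IsCyclic M := isCyclic_of_injective (Subgroup.inclusion hMP) (Subgroup.inclusion_injective _)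
    -- conjugation on a cyclic group has abelian image
    have hconj : ∀ g g' : G, Commute (MulAut.conjNormal (H := M) g) (MulAut.conjNormal g') := by
      intro g g'
      obtain ⟨u, hu⟩ := IsCyclic.exists_generator (α := M)
      obtain ⟨i, hi⟩ := Subgroup.mem_zpowers_iff.mp (hu (MulAut.conjNormal g u))
      obtain ⟨j, hj⟩ := Subgroup.mem_zpowers_iff.mp (hu (MulAut.conjNormal g' u))
      refine MulEquiv.ext fun w => ?_
      obtain ⟨l, rfl⟩ := Subgroup.mem_zpowers_iff.mp (hu w)
      simp only [MulAut.mul_apply, map_zpow, ← hi, ← hj, ← zpow_mul]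
      congr 1
      ring
    have hcen : ∀ g : G, Commute g x := fun g => by
      have h1 := congrArg (fun f : MulAut M => ((f ⟨x, hxM⟩ : M) : G))
        (hom_trivial_of_perfect_comm h.perfect MulAut.conjNormal hconj g)
      simp only [MulAut.conjNormal_apply, MulAut.one_apply] at h1
      exact mul_inv_eq_iff_eq_mul.mp h1
    letI : CommGroup (P : Subgroup G) := IsCyclic.commGroup
    let T : G →* (P : Subgroup G) := MonoidHom.transfer (MonoidHom.id _)
    have hkey : ∀ (k : ℕ) (g₀ : G), g₀⁻¹ * x ^ k * g₀ ∈ (P : Subgroup G) → g₀⁻¹ * x ^ k * g₀ = x ^ k := by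
      intro k g₀ _
      rw [mul_assoc, ← ((hcen g₀).pow_right k).eq, inv_mul_cancel_left]
    have hT : T x = 1 := hom_trivial_of_perfect_comm h.perfect T (fun a b => Commute.all _ _) x
    rw [MonoidHom.transfer_eq_pow _ x hkey] at hT
    have hpow : x ^ (P : Subgroup G).index = 1 := congrArg Subtype.val hT
    have hd := orderOf_dvd_of_pow_eq_one hpow
    rw [hxo] at hd
    exact P.not_dvd_index hd

end Ctx

end Cfsg.Agent.PrimePowOrbit
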