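import Cfsg.Agent.Lib.Transfer.PrimePowOrbit.Core
import Cfsg.Agent.Lib.Block.PrimeDegreeModule
import Cfsg.Agent.S0675
import Cfsg.Agent.S3972

/-!
The Sylow subgroup cannot be cyclic.
-/

set_option autoImplicit false
set_option linter.unusedSectionVars false
set_option linter.style.haveILetI false
set_option maxHeartbeats 800000

open scoped Classical

namespace Cfsg.Agent.PrimePowOrbit.Ctx

variable {q : ℕ} [hqF : Fact q.Prime] {p : ℕ} [hpF : Fact p.Prime]
variable {V : Type*} [AddCommGroup V] [Finite V] [Module (ZMod q) V]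
variable {G : Type*} [Group G] [Finite G] [DistribMulAction G V] [FaithfulSMul G V] [SMulCommClass G (ZMod q) V]
variable {P : Sylow p G}

theorem no_cyclic_two (h : Ctx q p V G P) (h2 : p = 2) (hcyc : IsCyclic (P : Subgroup G)) : False := by
  subst h2
  refine h.not_solvable ?_
  by_cases hd : 2 ∣ Nat.card G
  swap
  · haveI := h.nontrivial
    exact absurd (h.normal_coprime_bot (N := ⊤) inferInstance (by rwa [Subgroup.card_top])) top_ne_bot
  have hmin : (Nat.card G).minFac = 2 := (Nat.minFac_eq_two_iff _).mpr hd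
  have hnc := IsCyclic.normalizer_le_centralizer hmin hcyc
  set T := MonoidHom.transferSylow P hnc with hT
  have hker : T.ker = ⊥ := h.normal_coprime_bot inferInstance (MonoidHom.not_dvd_card_ker_transferSylow P hnc)
  haveI := hcyc
  exact Group.isSolvable_of_comm fun a b => (T.ker_eq_bot_iff.mp hker)
    (by rw [map_mul, map_mul]; letI : CommGroup (P : Subgroup G) := IsCyclic.commGroup; exact mul_comm _ _)

theorem no_cyclic (h : Ctx q p V G P) (hcyc : IsCyclic (P : Subgroup G)) : False := by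
  by_cases h2 : p = 2
  · exact h.no_cyclic_two h2 hcyc
  have hp3 : 3 ≤ p := by have := hpF.out.two_le; omega
  obtain ⟨⟨g, hgP⟩, hgen⟩ := hcyc.exists_generator
  have hPg : (P : Subgroup G) = Subgroup.zpowers g := by
    refine le_antisymm (fun s hs => ?_) (Subgroup.zpowers_le.mpr hgP)
    obtain ⟨i, hi⟩ := Subgroup.mem_zpowers_iff.mp (hgen ⟨s, hs⟩)
    exact ⟨i, congrArg Subtype.val hi⟩
  obtain ⟨m, hm⟩ := P.isPGroup'.exists_card_eq
  have hgo : orderOf g = p ^ m := by rw [← Nat.card_zpowers, ← hPg, hm]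
  have hm0 : m ≠ 0 := fun h0 => h.sylow_ne_bot (Subgroup.card_eq_one.mp (by rw [hm, h0, pow_zero]))
  set z := g ^ p ^ (m - 1) with hz
  have hzo : orderOf z = p := by
    rw [hz, orderOf_pow_of_dvd (pow_ne_zero _ hpF.out.ne_zero) (hgo ▸ pow_dvd_pow p (by omega)), hgo,
      Nat.pow_div (by omega) hpF.out.pos, show m - (m - 1) = 1 by omega, pow_one]
  have hz1 : z ≠ 1 := fun h0 => by rw [h0, orderOf_one] at hzo; omega
  have hzc : ∀ s ∈ (P : Subgroup G), Commute s z := fun s hs => by
    rw [hPg] at hs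
    obtain ⟨i, rfl⟩ := Subgroup.mem_zpowers_iff.mp hs
    exact ((Commute.refl g).zpow_left i).pow_right _
  obtain ⟨v₀, hv₀⟩ := h.exists_ne_zero
  let Ω := MulAction.orbit G v₀
  haveI : Fintype Ω := Fintype.ofFinite _
  -- the Sylow subgroup is regular
  have hreg : ∀ (x : Ω), ∀ s ∈ (P : Subgroup G), s • (x : V) = x → s = 1 := by
    intro x s hs hsx
    by_contra hs1
    have hx0 : (x : V) ≠ 0 := by
      obtain ⟨a, ha⟩ := x.2
      rw [← ha]
      intro h0
      exact hv₀ (by simpa using congrArg (fun t => a⁻¹ • t) h0)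
    rw [hPg] at hs
    obtain ⟨i, hi⟩ := (isOfFinOrder_of_finite g).mem_powers_iff_mem_zpowers.mpr hs
    replace hi : g ^ i = s := hi
    have hnd : ¬ p ^ m ∣ i := fun hd => hs1 (by rw [← hi, ← orderOf_dvd_iff_pow_eq_one, hgo]; exact hd)
    obtain ⟨k, hk, hgcd⟩ := (Nat.dvd_prime_pow hpF.out).mp (Nat.gcd_dvd_right i (p ^ m))
    have hkm : k < m := lt_of_le_of_ne hk fun e => hnd (e ▸ hgcd ▸ Nat.gcd_dvd_left i (p ^ m))
    have hstab : g ^ p ^ k ∈ MulAction.stabilizer G (x : V) := by
      rw [← hgcd, ← zpow_natCast, Nat.gcd_eq_gcd_ab, zpow_add, zpow_mul, zpow_mul, zpow_natCast, zpow_natCast, hi,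
        ← hgo, pow_orderOf_eq_one, one_zpow, mul_one]
      exact zpow_mem hsx _
    have hzs : z ∈ MulAction.stabilizer G (x : V) := by
      rw [hz, show p ^ (m - 1) = p ^ k * p ^ (m - 1 - k) by rw [← pow_add]; congr 1; omega, pow_mul]
      exact pow_mem hstab _
    exact hx0 (h.fpf_of_central hz1 hzc hzs)
  let o : ↥(P : Subgroup G) → Ω := fun s => ⟨(s : G) • v₀, MulAction.mem_orbit v₀ (s : G)⟩
  have hobij : Function.Bijective o := by
    refine ⟨fun s t hst => ?_, fun x => ?_⟩
    · have h1 := congrArg Subtype.val hst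
      simp only [o] at h1
      have := hreg ⟨v₀, MulAction.mem_orbit_self v₀⟩ ((t : G)⁻¹ * s) (mul_mem (inv_mem t.2) s.2)
        (by show ((t : G)⁻¹ * s) • v₀ = v₀; rw [mul_smul, h1, inv_smul_smul])
      exact Subtype.ext (inv_mul_eq_one.mp this).symm
    · obtain ⟨a, ha⟩ := x.2
      obtain ⟨s, hs, hsv⟩ := h.orbit_eq a v₀
      exact ⟨⟨s, hs⟩, Subtype.ext (hsv.symm.trans ha)⟩
  have hcardΩ : Fintype.card Ω = p ^ m := by
    rw [← Nat.card_eq_fintype_card, ← Nat.card_eq_of_bijective o hobij, hm]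
  -- the orbit spans
  let L : (Ω → ZMod q) →ₗ[ZMod q] V := Fintype.linearCombination (ZMod q) (fun x : Ω => (x : V))
  have hL : Function.Surjective L := by
    have hone : ∀ x : Ω, (x : V) ∈ LinearMap.range L := fun x =>
      ⟨Pi.single x 1, by simp [L, Fintype.linearCombination_apply_single]⟩
    have htop : (LinearMap.range L).toAddSubgroup = ⊤ := by
      refine h.bot_or_top_eq _ ?_ (v := v₀) (hone ⟨v₀, MulAction.mem_orbit_self v₀⟩) hv₀
      rintro s - w ⟨c, rfl⟩
      simp only [L, Fintype.linearCombination_apply, Finset.smul_sum]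
      refine Submodule.sum_mem _ fun x _ => ?_
      rw [smul_comm]
      refine Submodule.smul_mem _ _ (hone ⟨s • (x : V), ?_⟩)
      obtain ⟨a, ha⟩ := x.2
      exact ⟨s * a, by simp only [mul_smul]; rw [show a • v₀ = (x : V) from ha]⟩
    intro w
    exact (htop ▸ AddSubgroup.mem_top w : w ∈ (LinearMap.range L).toAddSubgroup)
  let ψ : G →* Equiv.Perm Ω := MulAction.toPermHom G Ω
  have hψ : ∀ (a : G) (x : Ω), ((ψ a x : Ω) : V) = a • (x : V) := fun a x => rfl
  have hψinj : Function.Injective ψ := by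
    rw [← MonoidHom.ker_eq_bot_iff, Subgroup.eq_bot_iff_forall]
    intro a ha
    refine FaithfulSMul.eq_of_smul_eq_smul (α := V) fun v => ?_
    obtain ⟨c, rfl⟩ := hL v
    simp only [L, Fintype.linearCombination_apply, Finset.smul_sum, one_smul]
    refine Finset.sum_congr rfl fun x _ => ?_
    rw [smul_comm, ← hψ, MonoidHom.mem_ker.mp ha]
    rfl
  have hnsol : ¬ Group.IsSolvable ψ.range := fun hs =>
    h.not_solvable (Group.isSolvable_of_isSolvable_injective (f := ψ.rangeRestrict) fun a b hab =>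
      hψinj (congrArg Subtype.val hab))
  haveI htr : MulAction.IsPretransitive ψ.range Ω := ⟨fun x y => by
    obtain ⟨a, ha⟩ := x.2
    obtain ⟨b, hb⟩ := y.2
    refine ⟨⟨ψ (b * a⁻¹), _, rfl⟩, Subtype.ext ?_⟩
    show (b * a⁻¹) • (x : V) = y
    rw [← ha, ← hb, mul_smul, inv_smul_smul]⟩
  -- double transitivity
  have h2t : MulAction.IsMultiplyPretransitive ψ.range Ω 2 := by
    by_cases hm1 : m = 1
    · exact ((Cfsg.Agent.S0675.result (by rw [hcardΩ, hm1, pow_one]; exact hpF.out) ψ.range)).resolve_left hnsol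
    by_contra hn2
    let g' : ψ.range := ⟨ψ g, g, rfl⟩
    have hg' : orderOf g' = p ^ m := by
      rw [← Subgroup.orderOf_coe, orderOf_injective ψ hψinj, hgo]
    obtain ⟨-, hint⟩ := Cfsg.Agent.S3972.result p m hpF.out (by omega) hcardΩ ψ.range htr hn2 g' hg'
    set M := Subgroup.normalClosure ({g' ^ p ^ (m - 1)} : Set ψ.range) with hM
    set N := M.comap ψ.rangeRestrict with hN
    have hzN : z ∈ N := by
      rw [hN, Subgroup.mem_comap]
      refine Subgroup.subset_normalClosure (Set.mem_singleton_iff.mpr (Subtype.ext ?_))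
      show ψ z = ((g' ^ p ^ (m - 1) : ψ.range) : Equiv.Perm Ω)
      rw [hz, map_pow, SubmonoidClass.coe_pow]
    have hNne : N ≠ ⊤ := by
      intro hNt
      apply hint
      have hMt : M = ⊤ := by
        rw [← Subgroup.map_comap_eq_self_of_surjective ψ.rangeRestrict_surjective M, ← hN, hNt,
          ← MonoidHom.range_eq_map, MonoidHom.range_eq_top.mpr ψ.rangeRestrict_surjective]
      exact ⟨fun x y => by
        obtain ⟨a, ha⟩ := MulAction.exists_smul_eq ψ.range x y
        exact ⟨⟨a, hMt ▸ Subgroup.mem_top a⟩, ha⟩⟩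
    haveI : N.Normal := Subgroup.normalClosure_normal.comap _
    have hNb := h.solvable_normal_bot hcyc (Nat.card N) N le_rfl inferInstance (h.minimal N inferInstance hNne)
    exact hz1 (Subgroup.mem_bot.mp (hNb ▸ hzN))
  have hN5 : 4 ≤ Fintype.card Ω := by
    rw [hcardΩ]
    by_contra h4
    have hle : p ^ m ≤ 3 := by omega
    have hp_le : p ≤ p ^ m := Nat.le_self_pow hm0 p
    have hpe : p = 3 := by omega
    have hc3 : Fintype.card Ω = p := by rw [hcardΩ]; omega
    exact hnsol (Cfsg.Agent.Block.isSolvable_of_card_le_three hc3 (by omega) ψ.range)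
  -- an equivariant section
  obtain ⟨S, hS⟩ := L.exists_rightInverse_of_surjective (LinearMap.range_eq_top.mpr hL)
  haveI : Fintype G := Fintype.ofFinite G
  have hG0 : (Nat.card G : ZMod q) ≠ 0 := by rw [Ne, ZMod.natCast_eq_zero_iff]; exact h.coprime
  let sm : G → Ω → Ω := fun a x => ψ a x
  let φ : V → Ω → ZMod q := fun v y => (Nat.card G : ZMod q)⁻¹ * ∑ a : G, S (a⁻¹ • v) (ψ a⁻¹ y)
  have hφadd : ∀ v w, φ (v + w) = φ v + φ w := by
    intro v w; funext y
    simp only [φ, Pi.add_apply, smul_add, map_add, Finset.sum_add_distrib, mul_add]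
  have hφeq : ∀ (b : G) v y, φ (b • v) (ψ b y) = φ v y := by
    intro b v y
    simp only [φ]
    congr 1
    refine Fintype.sum_equiv (Equiv.mulLeft b⁻¹) _ _ fun a => ?_
    simp only [Equiv.coe_mulLeft, mul_inv_rev, inv_inv, mul_smul, map_mul, Equiv.Perm.mul_apply]
  have hφsum : ∀ v, ∑ y, φ v y • (y : V) = v := by
    intro v
    simp only [φ, mul_smul, ← Finset.smul_sum, Finset.sum_smul]
    rw [Finset.sum_comm]
    have h1 : ∀ a : G, ∑ y : Ω, S (a⁻¹ • v) (ψ a⁻¹ y) • (y : V) = v := fun a => by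
      have h2 := LinearMap.congr_fun hS (a⁻¹ • v)
      simp only [L, LinearMap.comp_apply, LinearMap.id_apply, Fintype.linearCombination_apply] at h2
      have h3 := congrArg (fun t => a • t) h2
      simp only [Finset.smul_sum, smul_inv_smul] at h3
      refine Eq.trans ?_ h3
      refine Fintype.sum_equiv (ψ a⁻¹) _ _ fun y => ?_
      rw [smul_comm a, ← hψ a, ← Equiv.Perm.mul_apply, ← map_mul, mul_inv_cancel, map_one, Equiv.Perm.one_apply]
    rw [Finset.sum_congr rfl fun a _ => h1 a, Finset.sum_const, Finset.card_univ, ← Nat.card_eq_fintype_card,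
      ← Nat.cast_smul_eq_nsmul (ZMod q), smul_smul, inv_mul_cancel₀ hG0, one_smul]
  obtain ⟨x₀, y₀, hxy⟩ := Fintype.exists_pair_of_one_lt_card (α := Ω) (by omega)
  set d := φ x₀ x₀ with hd
  set b := φ x₀ y₀ with hb
  have hval : ∀ x y : Ω, φ (x : V) y = if x = y then d else b := by
    intro x y
    split_ifs with hxy'
    · subst hxy'
      obtain ⟨⟨τ, a, rfl⟩, ha⟩ := MulAction.exists_smul_eq ψ.range x₀ x
      have hx : ψ a x₀ = x := ha
      rw [hd, ← hφeq a (x₀ : V) x₀, ← hψ, hx]
    · obtain ⟨⟨τ, a, rfl⟩, hax, hay⟩ := MulAction.is_two_pretransitive_iff.mp h2t hxy hxy'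
      have hx : ψ a x₀ = x := hax
      have hy : ψ a y₀ = y := hay
      rw [hb, ← hφeq a (x₀ : V) y₀, ← hψ, hx, hy]
  have hfix : ∑ y : Ω, (y : V) = 0 := by
    refine h.fpf_of_central hz1 hzc ?_
    rw [Finset.smul_sum]
    exact Fintype.sum_equiv (ψ z) _ _ fun y => (hψ z y).symm
  have hx0 : ∀ x : Ω, (x : V) ≠ 0 := fun x h0 => hz1 (hreg x z (hPg ▸ Subgroup.npow_mem_zpowers g _) (by rw [h0, smul_zero]))
  have hdb : d = b + 1 := by
    have h1 := hφsum (x₀ : V)
    simp only [hval] at h1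
    have h2 : ∀ y : Ω, (if x₀ = y then d else b) • (y : V) = b • (y : V) + (if x₀ = y then (d - b) • (y : V) else 0) := by
      intro y; split_ifs
      · rw [← add_smul, add_sub_cancel]
      · rw [add_zero]
    rw [Finset.sum_congr rfl fun y _ => h2 y, Finset.sum_add_distrib, ← Finset.smul_sum, hfix, smul_zero, zero_add,
      Finset.sum_ite_eq, if_pos (Finset.mem_univ _), ← sub_eq_zero] at h1
    have h3 : (d - b - 1) • (x₀ : V) = 0 := by rw [sub_smul, one_smul]; exact h1
    rw [smul_eq_zero] at h3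
    have h4 := h3.resolve_right (hx0 x₀)
    linear_combination h4
  -- sums over pairs are distinct
  have hpair : ∀ x y x' y' : Ω, x ≠ y → x' ≠ y' → (x : V) + y = x' + y' → x ∈ ({x', y'} : Finset Ω) := by
    intro x y x' y' hxy1 hxy2 he
    by_contra hcon
    simp only [Finset.mem_insert, Finset.mem_singleton, not_or] at hcon
    have h1 := congrFun (congrArg φ he) x
    simp only [hφadd, Pi.add_apply, hval, if_true, if_neg (Ne.symm hxy1), if_neg (Ne.symm hcon.1),
      if_neg (Ne.symm hcon.2), hdb] at h1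
    have : (1 : ZMod q) = 0 := by linear_combination h1
    exact one_ne_zero this
  let F : Finset Ω → V := fun s => ∑ x ∈ s, (x : V)
  have hsub : ∀ s ∈ (Finset.univ.powersetCard 2 : Finset (Finset Ω)),
      F s ∈ (Finset.univ : Finset (P : Subgroup G)).image (fun t : (P : Subgroup G) => (t : G) • ((x₀ : V) + y₀)) := by
    intro s hs
    obtain ⟨a, c, hac, rfl⟩ := Finset.card_eq_two.mp (Finset.mem_powersetCard.mp hs).2
    obtain ⟨⟨τ, u, rfl⟩, hua, huc⟩ := MulAction.is_two_pretransitive_iff.mp h2t hxy hac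
    obtain ⟨t, ht, htv⟩ := h.orbit_eq u ((x₀ : V) + y₀)
    refine Finset.mem_image.mpr ⟨⟨t, ht⟩, Finset.mem_univ _, ?_⟩
    have ha : ψ u x₀ = a := hua
    have hc : ψ u y₀ = c := huc
    show t • ((x₀ : V) + y₀) = F {a, c}
    simp only [F]
    rw [Finset.sum_pair hac, ← htv, smul_add, ← hψ, ← hψ, ha, hc]
  have hinj : Set.InjOn F ↑(Finset.univ.powersetCard 2 : Finset (Finset Ω)) := by
    intro s hs t ht he
    obtain ⟨a, c, hac, rfl⟩ := Finset.card_eq_two.mp (Finset.mem_powersetCard.mp (Finset.mem_coe.mp hs)).2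
    obtain ⟨a', c', hac', rfl⟩ := Finset.card_eq_two.mp (Finset.mem_powersetCard.mp (Finset.mem_coe.mp ht)).2
    simp only [F, Finset.sum_pair hac, Finset.sum_pair hac'] at he
    refine Finset.eq_of_subset_of_card_le ?_ (by rw [Finset.card_pair hac, Finset.card_pair hac'])
    intro w hw
    rcases Finset.mem_insert.mp hw with rfl | hw
    · exact hpair _ _ _ _ hac hac' he
    · rw [Finset.mem_singleton] at hw; subst hw
      exact hpair _ _ _ _ hac.symm hac' ((add_comm _ _).trans he)
  have hcnt := (Finset.card_le_card_of_injOn F hsub hinj).trans Finset.card_image_le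
  rw [Finset.card_powersetCard, Finset.card_univ, Finset.card_univ, ← Nat.card_eq_fintype_card (α := (P : Subgroup G)),
    hm, ← hcardΩ, Nat.choose_two_right] at hcnt
  have h6 : Fintype.card Ω * 3 ≤ Fintype.card Ω * (Fintype.card Ω - 1) := Nat.mul_le_mul_left _ (by omega)
  omega

end Cfsg.Agent.PrimePowOrbit.Ctx
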