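import Cfsg.Agent.Lib.Transfer.PrimePowOrbit.Blocks

/-!
A normal elementary abelian piece of rank two in the Sylow subgroup gives `p` blocks.
-/

set_option autoImplicit false
set_option linter.unusedSectionVars false
set_option linter.style.haveILetI false

namespace Cfsg.Agent.PrimePowOrbit.Ctx

variable {q : ℕ} [Fact q.Prime] {p : ℕ} [hpF : Fact p.Prime]
variable {V : Type*} [AddCommGroup V] [Finite V] [Module (ZMod q) V]
variable {G : Type*} [Group G] [Finite G] [DistribMulAction G V] [FaithfulSMul G V] [SMulCommClass G (ZMod q) V]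
variable {P : Sylow p G}

theorem no_rank_two (h : Ctx q p V G P) {z e : G} (hzP : z ∈ (P : Subgroup G)) (heP : e ∈ (P : Subgroup G))
    (hzc : ∀ s ∈ (P : Subgroup G), Commute s z) (hzo : orderOf z = p) (he : e ^ p = 1)
    (hez : e ∉ Subgroup.zpowers z) (hs : ∀ s ∈ (P : Subgroup G), ∃ k : ℕ, s * e * s⁻¹ = e * z ^ k) : False := by
  classical
  haveI : NeZero p := ⟨hpF.out.ne_zero⟩
  have hzp : z ^ p = 1 := hzo ▸ pow_orderOf_eq_one z
  have hzv : ∀ n : ℕ, z ^ (n : ZMod p).val = z ^ n := fun n => by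
    rw [ZMod.val_natCast, ← hzo, pow_mod_orderOf]
  have hadd : ∀ i j : ZMod p, z ^ (i + j).val = z ^ i.val * z ^ j.val := fun i j => by
    rw [← pow_add, ← hzv (i.val + j.val), Nat.cast_add, ZMod.natCast_zmod_val, ZMod.natCast_zmod_val]
  have hz1 : z ≠ 1 := fun h0 => by rw [h0, orderOf_one] at hzo; exact hpF.out.one_lt.ne hzo
  have hcez : Commute e z := hzc e heP
  have hne1 : ∀ i : ZMod p, e * z ^ i.val ≠ 1 := fun i hi => hez (by
    rw [eq_inv_of_mul_eq_one_left hi]
    exact inv_mem (Subgroup.npow_mem_zpowers z _))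
  let W : ZMod p → AddSubgroup V := fun i =>
    { carrier := {w | (e * z ^ i.val) • w = w}
      zero_mem' := smul_zero _
      add_mem' := fun {a b} ha hb => by show (e * z ^ i.val) • (a + b) = a + b; rw [smul_add, ha, hb]
      neg_mem' := fun {a} ha => by show (e * z ^ i.val) • (-a) = -a; rw [smul_neg, ha] }
  have hcomm : ∀ i j : ZMod p, Commute (e * z ^ i.val) (e * z ^ j.val) := fun i j =>
    ((Commute.refl e).mul_right (hcez.pow_right _)).mul_left ((hcez.symm.pow_left _).mul_right (Commute.pow_pow_self z _ _))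
  have hmem : ∀ i x, x ∈ W i ↔ (e * z ^ i.val) • x = x := fun _ _ => Iff.rfl
  -- a nontrivial fixed space
  have hsome : ∃ i, ∃ w ∈ W i, w ≠ 0 := by
    by_contra hall
    push Not at hall
    obtain ⟨v, hv⟩ := h.exists_ne_zero
    have hline : ∀ (x : G), x ^ p = 1 → (∀ w : V, x • w = w → w = 0) → ∑ j ∈ Finset.range p, x ^ j • v = 0 := by
      intro x hx hfix
      refine hfix _ ?_
      have h1 := Finset.sum_range_succ' (fun j => x ^ j • v) p
      have h2 := Finset.sum_range_succ (fun j => x ^ j • v) p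
      simp only [hx, pow_zero] at h1 h2
      rw [Finset.smul_sum, ← add_left_inj (((1 : G)) • v)]
      simp_rw [← mul_smul, ← pow_succ']
      exact h1.symm.trans h2
    have hsum : ∑ i ∈ Finset.range p, ∑ j ∈ Finset.range p, (e * z ^ i) ^ j • v = 0 :=
      Finset.sum_eq_zero fun i _ => hline _
        (by rw [(hcez.pow_right i).mul_pow, he, ← pow_mul, mul_comm, pow_mul, hzp, one_pow, one_mul])
        fun w hw => hall (i : ZMod p) w ((hmem _ _).mpr (by rwa [hzv]))
    rw [Finset.sum_comm, Finset.sum_eq_single_of_mem 0 (Finset.mem_range.mpr hpF.out.pos) ?_] at hsum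
    · simp only [pow_zero, one_smul, Finset.sum_const, Finset.card_range] at hsum
      rw [← Nat.cast_smul_eq_nsmul (ZMod q), smul_eq_zero] at hsum
      rcases hsum with h0 | h0
      · rw [ZMod.natCast_eq_zero_iff] at h0
        exact h.pq ((Nat.prime_dvd_prime_iff_eq Fact.out hpF.out).mp h0).symm
      · exact hv h0
    · intro j hj hj0
      have hjp : ¬ p ∣ j := fun hd => absurd (Nat.le_of_dvd (Nat.pos_of_ne_zero hj0) hd)
        (not_le.mpr (Finset.mem_range.mp hj))
      simp_rw [(hcez.pow_right _).mul_pow, mul_smul, ← Finset.smul_sum, ← pow_mul]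
      simp_rw [mul_comm _ j, pow_mul]
      have hzj : ∀ w : V, z ^ j • w = w → w = 0 := fun w hw =>
        h.fpf_of_central (fun h1 => hjp (by rw [← orderOf_dvd_iff_pow_eq_one, hzo] at h1; exact h1)) (fun s hs => (hzc s hs).pow_right j) hw
      rw [hline (z ^ j) (by rw [← pow_mul, mul_comm, pow_mul, hzp, one_pow]) hzj, smul_zero]
  obtain ⟨i₀, w₀, hw₀, hw₀0⟩ := hsome
  have hshift : ∀ s ∈ (P : Subgroup G), ∃ k : ZMod p, ∀ i, ∀ w ∈ W i, s • w ∈ W (i + k) := by
    intro s hsP
    obtain ⟨k, hk⟩ := hs s hsP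
    refine ⟨(k : ZMod p), fun i w hw => (hmem _ _).mpr ?_⟩
    have h1 : s * (e * z ^ i.val) * s⁻¹ = e * z ^ (i + (k : ZMod p)).val := by
      rw [hadd, hzv, show s * (e * z ^ i.val) * s⁻¹ = (s * e * s⁻¹) * (s * z ^ i.val * s⁻¹) by group, hk,
        ((hzc s hsP).pow_right i.val).eq, mul_inv_cancel_right, mul_assoc, ← pow_add, ← pow_add, add_comm k]
    rw [← h1, mul_smul, inv_smul_smul, mul_smul, (hmem _ _).mp hw]
  -- some element moves the lines
  obtain ⟨s, hsP, k, hk0, hk⟩ : ∃ s ∈ (P : Subgroup G), ∃ k : ZMod p, k ≠ 0 ∧ ∀ i, ∀ w ∈ W i, s • w ∈ W (i + k) := by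
    by_contra hall
    push Not at hall
    have hW : W i₀ = ⊤ := h.bot_or_top_eq (W i₀) (fun s hsP w hw => by
      obtain ⟨k, hk⟩ := hshift s hsP
      by_cases hk0 : k = 0
      · have := hk i₀ w hw; rwa [hk0, add_zero] at this
      · obtain ⟨i, x, hx, hx'⟩ := hall s hsP k hk0
        exact absurd (hk i x hx) hx') hw₀ hw₀0
    refine hne1 i₀ (FaithfulSMul.eq_of_smul_eq_smul (α := V) fun v => ?_)
    rw [one_smul]
    exact (hmem _ _).mp (hW ▸ AddSubgroup.mem_top v)
  have hiter : ∀ n : ℕ, ∃ w ∈ W (i₀ + (n : ZMod p) * k), w ≠ 0 := by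
    intro n
    induction n with
    | zero => exact ⟨w₀, by simpa using hw₀, hw₀0⟩
    | succ n ih =>
      obtain ⟨w, hw, hw0⟩ := ih
      refine ⟨s • w, ?_, fun h0 => hw0 (by simpa using congrArg (fun t => s⁻¹ • t) h0)⟩
      have := hk _ w hw
      rwa [show i₀ + ((n + 1 : ℕ) : ZMod p) * k = i₀ + (n : ZMod p) * k + k by push_cast; ring]
  refine h.no_blocks (ι := ZMod p) (ZMod.card p) W (fun i => ?_) ?_
    (fun s hsP i => (hshift s hsP).elim fun k hk => ⟨i + k, hk i⟩)
  · have := hiter ((i - i₀) * k⁻¹).val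
    rwa [ZMod.natCast_zmod_val, mul_assoc, inv_mul_cancel₀ hk0, mul_one, add_sub_cancel] at this
  -- independence
  intro f hf hsum0
  suffices ∀ S : Finset (ZMod p), ∀ g : ZMod p → V, (∀ i, g i ∈ W i) → ∑ i ∈ S, g i = 0 → ∀ i ∈ S, g i = 0 from
    fun i => this Finset.univ f hf hsum0 i (Finset.mem_univ i)
  intro S
  induction S using Finset.induction_on with
  | empty => simp
  | @insert a S haS ih =>
    intro g hg hg0
    rw [Finset.sum_insert haS] at hg0
    have hgS : ∀ i ∈ S, g i = 0 := by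
      intro i hi
      have hia : i ≠ a := fun h0 => haS (h0 ▸ hi)
      have hg' : ∀ j, (e * z ^ a.val) • g j - g j = z ^ (a - j).val • g j - g j := fun j => by
        congr 1
        conv_lhs => rw [show a = (a - j) + j by ring, hadd, ← mul_assoc, (hcez.pow_right _).eq, mul_assoc, mul_smul]
        rw [(hmem _ _).mp (hg j)]
      have h1 := ih (fun j => (e * z ^ a.val) • g j - g j) (fun j => by
        refine sub_mem ((hmem _ _).mpr ?_) (hg j)
        rw [← mul_smul, (hcomm j a).eq, mul_smul, (hmem _ _).mp (hg j)]) ?_ i hi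
      · rw [hg', sub_eq_zero] at h1
        refine h.fpf_of_central (fun h2 => ?_) (fun s hs => (hzc s hs).pow_right _) h1
        have h3 := Nat.eq_zero_of_dvd_of_lt (show p ∣ (a - i).val by rw [← orderOf_dvd_iff_pow_eq_one, hzo] at h2; exact h2) (ZMod.val_lt (a - i))
        rw [ZMod.val_eq_zero, sub_eq_zero] at h3
        exact hia h3.symm
      · rw [Finset.sum_sub_distrib, ← Finset.smul_sum]
        have hS : ∑ j ∈ S, g j = -g a := eq_neg_of_add_eq_zero_right hg0
        rw [hS, smul_neg, (hmem _ _).mp (hg a), sub_self]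
    intro i hi
    rcases Finset.mem_insert.mp hi with rfl | hi
    · rwa [Finset.sum_eq_zero hgS, add_zero] at hg0
    · exact hgS i hi

end Cfsg.Agent.PrimePowOrbit.Ctx
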