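import Mathlib
import Cfsg.Agent.Lib.Recog.NormalAbelianCyclic
import Cfsg.Agent.Lib.Fus.CaminaPairBasic
import Cfsg.Agent.Lib.Grp.Frattini

/-!
The two shapes of a `p`-group that matter for orbit arguments: either a noncentral elementary
abelian piece of order `p ^ 2` is normal, or the group is cyclic, or `p = 2` and a cyclic subgroup
of index two is acted on by an exponent congruent to `3` modulo `4`.
-/

set_option autoImplicit false
set_option linter.style.haveILetI false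

namespace Cfsg.Agent.PrimePowOrbit

variable {P : Type*} [Group P] [Finite P] {p : ℕ} [Fact p.Prime]

/-- Data for a cyclic subgroup of index two. -/
def IndexTwoData (P : Type*) [Group P] : Prop :=
  ∃ (c s : P) (n : ℕ) (t : ℤ), 2 ≤ n ∧ orderOf c = 2 ^ n ∧ s * c * s⁻¹ = c ^ t ∧ (4 : ℤ) ∣ t + 1 ∧
    (Subgroup.zpowers c).index = 2 ∧ s ∉ Subgroup.zpowers c

theorem IndexTwoData.of_mulEquiv {Q : Type*} [Group Q] (e : P ≃* Q) (h : IndexTwoData P) : IndexTwoData Q := by
  obtain ⟨c, s, n, t, hn, ho, hs, h4, hi, hsn⟩ := h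
  have hmap : (Subgroup.zpowers c).map e.toMonoidHom = Subgroup.zpowers (e c) := MonoidHom.map_zpowers _ _
  refine ⟨e c, e s, n, t, hn, by rw [MulEquiv.orderOf_eq, ho], ?_, h4, ?_, ?_⟩
  · rw [← map_inv, ← map_mul, ← map_mul, hs, map_zpow]
  · rw [← hmap, Subgroup.index_map_of_bijective (f := e.toMonoidHom) e.bijective, hi]
  · rw [← hmap]
    rintro ⟨x, hx, hxe⟩
    exact hsn (e.injective hxe ▸ hx)

theorem indexTwoData_of_conj {c s : P} {n : ℕ} (hn : 2 ≤ n) (ho : orderOf c = 2 ^ n) {t : ℤ}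
    (hs : s * c * s⁻¹ = c ^ t) (h4 : (4 : ℤ) ∣ t + 1) (hcard : Nat.card P = 2 ^ (n + 1)) : IndexTwoData P := by
  refine ⟨c, s, n, t, hn, ho, hs, h4, ?_, fun hmem => ?_⟩
  · have := (Subgroup.zpowers c).card_mul_index
    rw [Nat.card_zpowers, ho, hcard, pow_succ] at this
    exact Nat.eq_of_mul_eq_mul_left (by positivity) this
  · obtain ⟨i, rfl⟩ := Subgroup.mem_zpowers_iff.mp hmem
    have h1 : c ^ t = c ^ (1 : ℤ) := by rw [← hs, zpow_one]; group
    rw [NAC.zpow_eq_iff_dvd ho] at h1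
    push_cast at h1
    have h5 : (4 : ℤ) ∣ (2 : ℤ) ^ n := ⟨2 ^ (n - 2), by
      rw [show (4 : ℤ) = 2 ^ 2 by norm_num, ← pow_add, show 2 + (n - 2) = n by omega]⟩
    have h6 := h5.trans h1
    omega

/-- The trichotomy. -/
theorem shape (hP : IsPGroup p P) :
    (∃ z e : P, z ∈ Subgroup.center P ∧ orderOf z = p ∧ e ^ p = 1 ∧ e ∉ Subgroup.zpowers z ∧
        ∀ s : P, ∃ k : ℕ, s * e * s⁻¹ = e * z ^ k) ∨
      IsCyclic P ∨ (p = 2 ∧ IndexTwoData P) := by
  classical
  have hp : p.Prime := Fact.out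
  by_cases hn : ∀ A : Subgroup P, A.Normal → IsMulCommutative A → IsCyclic A
  · right
    rcases NAC.classify hP hn with h | ⟨rfl, ⟨k, ⟨e⟩⟩ | ⟨k, hk8, ⟨e⟩⟩ | ⟨n, hn3, hcard, x, y, hx, -, hxy⟩⟩
    · exact Or.inl h
    · have hk0 : k ≠ 0 := by
        rintro rfl
        haveI : Finite (QuaternionGroup 0) := Finite.of_equiv P e.toEquiv
        haveI : Infinite (QuaternionGroup 0) :=
          Infinite.of_injective (fun i : ℤ => QuaternionGroup.a (n := 0) i) (fun _ _ h => QuaternionGroup.a.inj h)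
        exact not_finite (QuaternionGroup 0)
      haveI : NeZero k := ⟨hk0⟩
      have hPc : IsPGroup 2 (QuaternionGroup k) := hP.of_equiv e
      obtain ⟨m, hm⟩ := hPc.exists_card_eq
      rw [Nat.card_eq_fintype_card, QuaternionGroup.card] at hm
      obtain ⟨j, -, rfl⟩ := (Nat.dvd_prime_pow Nat.prime_two).mp (hm ▸ dvd_mul_left k 4)
      rcases j with _ | j
      · haveI : IsCyclic (QuaternionGroup (2 ^ 0)) := QuaternionGroup.quaternionGroup_one_isCyclic
        exact Or.inl (isCyclic_of_surjective e.symm e.symm.surjective)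
      refine Or.inr ⟨rfl, IndexTwoData.of_mulEquiv e.symm ?_⟩
      refine indexTwoData_of_conj (c := QuaternionGroup.a 1) (s := QuaternionGroup.xa 0) (n := j + 2) (t := -1)
        (by omega) ?_ ?_ ⟨0, by norm_num⟩ ?_
      · rw [QuaternionGroup.orderOf_a_one]; ring
      · rw [zpow_neg_one]
        rw [mul_inv_eq_iff_eq_mul, eq_inv_mul_iff_mul_eq]
        simp
      · rw [Nat.card_eq_fintype_card, QuaternionGroup.card]; ring
    · haveI : NeZero k := ⟨by omega⟩
      have hPc : IsPGroup 2 (DihedralGroup k) := hP.of_equiv e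
      obtain ⟨m, hm⟩ := hPc.exists_card_eq
      rw [Nat.card_eq_fintype_card, DihedralGroup.card] at hm
      obtain ⟨j, -, rfl⟩ := (Nat.dvd_prime_pow Nat.prime_two).mp (hm ▸ dvd_mul_left k 2)
      have hj : 2 ≤ j := by
        by_contra hlt
        have : 2 ^ j ≤ 2 ^ 1 := Nat.pow_le_pow_right two_pos (by omega)
        omega
      refine Or.inr ⟨rfl, IndexTwoData.of_mulEquiv e.symm ?_⟩
      refine indexTwoData_of_conj (c := DihedralGroup.r 1) (s := DihedralGroup.sr 0) (n := j) (t := -1)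
        hj DihedralGroup.orderOf_r_one ?_ ⟨0, by norm_num⟩ ?_
      · rw [zpow_neg_one]
        simp [DihedralGroup.inv_r, DihedralGroup.inv_sr]
      · rw [Nat.card_eq_fintype_card, DihedralGroup.card]; ring
    · refine Or.inr ⟨rfl, indexTwoData_of_conj (s := y) (t := ((2 ^ (n - 1) - 1 : ℕ) : ℤ)) (by omega) hx ?_ ?_ hcard⟩
      · rw [zpow_natCast]; exact hxy
      · have h4 : (4 : ℕ) ∣ 2 ^ (n - 1) := ⟨2 ^ (n - 3), by
          rw [show 4 = 2 ^ 2 by norm_num, ← pow_add]; congr 1; omega⟩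
        have : 1 ≤ 2 ^ (n - 1) := Nat.one_le_two_pow
        rw [Nat.cast_sub this]
        push_cast
        rw [sub_add_cancel]
        exact_mod_cast h4
  · left
    push Not at hn
    obtain ⟨A, hAn, hAc, hAnc⟩ := hn
    -- the elements of exponent `p` in `A`
    have hcA : ∀ x ∈ A, ∀ y ∈ A, Commute x y := fun x hx y hy => congrArg Subtype.val (hAc.is_comm.comm ⟨x, hx⟩ ⟨y, hy⟩)
    let E : Subgroup P :=
      { carrier := {x | x ∈ A ∧ x ^ p = 1}
        one_mem' := ⟨one_mem A, one_pow p⟩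
        mul_mem' := fun {x y} hx hy => ⟨mul_mem hx.1 hy.1, by rw [(hcA x hx.1 y hy.1).mul_pow, hx.2, hy.2, one_mul]⟩
        inv_mem' := fun {x} hx => ⟨inv_mem hx.1, by rw [inv_pow, hx.2, inv_one]⟩ }
    haveI hEn : E.Normal := ⟨fun x hx g => ⟨hAn.conj_mem x hx.1 g, by rw [conj_pow, hx.2, mul_one, mul_inv_cancel]⟩⟩
    obtain ⟨a, b, ha, hb, ha1, hbn⟩ : ∃ a b : P, a ∈ E ∧ b ∈ E ∧ a ≠ 1 ∧ b ∉ Subgroup.zpowers a := by
      by_contra hall
      push Not at hall
      apply hAnc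
      letI : CommGroup A := { (inferInstance : Group A) with mul_comm := fun a b => hAc.is_comm.comm a b }
      refine Fus.isCyclic_of_unique_order_prime (q := p) (hP.to_subgroup A) fun a b ha hb ha1 => ?_
      obtain ⟨i, hi⟩ := Subgroup.mem_zpowers_iff.mp (hall a b ⟨a.2, congrArg Subtype.val ha⟩ ⟨b.2, congrArg Subtype.val hb⟩
        fun h => ha1 (Subtype.ext h))
      exact Subgroup.mem_zpowers_iff.mpr ⟨i, Subtype.ext hi⟩
    haveI := hP.isNilpotent
    have hEne : E ≠ ⊥ := fun h => ha1 (Subgroup.mem_bot.mp (h ▸ ha))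
    obtain ⟨⟨z, hz⟩, hz1⟩ := Subgroup.ne_bot_iff_exists_ne_one.mp (Grp.inf_center_ne_bot E hEne)
    obtain ⟨hzE, hzc⟩ := Subgroup.mem_inf.mp hz
    have hz1' : z ≠ 1 := fun h => hz1 (Subtype.ext h)
    have hoz : orderOf z = p := orderOf_eq_prime hzE.2 hz1'
    set Z := Subgroup.zpowers z with hZ
    haveI hZn : Z.Normal := ⟨fun w hw g => by
      have hwc : w ∈ Subgroup.center P := Subgroup.zpowers_le.mpr hzc hw
      rwa [Subgroup.mem_center_iff.mp hwc g, mul_inv_cancel_right]⟩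
    haveI hE'n : (E.map (QuotientGroup.mk' Z)).Normal := hEn.map _ (QuotientGroup.mk'_surjective Z)
    have hE'ne : E.map (QuotientGroup.mk' Z) ≠ ⊥ := by
      intro h
      have hle : E ≤ Z := fun x hx => by
        have := Subgroup.mem_map_of_mem (QuotientGroup.mk' Z) hx
        rw [h, Subgroup.mem_bot] at this
        exact (QuotientGroup.eq_one_iff x).mp this
      have hoa : orderOf a = p := orderOf_eq_prime ha.2 ha1
      have : Subgroup.zpowers a = Z := Subgroup.eq_of_le_of_card_ge (Subgroup.zpowers_le.mpr (hle ha))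
        (by rw [hZ, Nat.card_zpowers, Nat.card_zpowers, hoz, hoa])
      exact hbn (this ▸ hle hb)
    obtain ⟨⟨w, hw⟩, hw1⟩ := Subgroup.ne_bot_iff_exists_ne_one.mp (Grp.inf_center_ne_bot _ hE'ne)
    obtain ⟨⟨e, heE, rfl⟩, hwc⟩ := Subgroup.mem_inf.mp hw
    have heZ : e ∉ Z := fun h => hw1 (Subtype.ext ((QuotientGroup.eq_one_iff e).mpr h))
    refine ⟨z, e, hzc, hoz, heE.2, heZ, fun s => ?_⟩
    have hmem : e⁻¹ * (s * e * s⁻¹) ∈ Z := by
      rw [← QuotientGroup.eq_one_iff]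
      have := Subgroup.mem_center_iff.mp hwc (s : P ⧸ Z)
      simp only [QuotientGroup.mk'_apply] at this
      rw [QuotientGroup.mk_mul, QuotientGroup.mk_mul, QuotientGroup.mk_mul, QuotientGroup.mk_inv, QuotientGroup.mk_inv,
        this, mul_inv_cancel_right, inv_mul_cancel]
    obtain ⟨k, hk⟩ := (isOfFinOrder_of_finite z).mem_powers_iff_mem_zpowers.mpr hmem
    exact ⟨k, by rw [show z ^ k = e⁻¹ * (s * e * s⁻¹) from hk, mul_inv_cancel_left]⟩

end Cfsg.Agent.PrimePowOrbit
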