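import Cfsg.Agent.Lib.Transfer.PrimePowOrbit.Blocks
import Cfsg.Agent.Lib.Transfer.PrimePowOrbit.Shape

/-!
The Sylow subgroup has no cyclic subgroup of index two acted on by an exponent `3` mod `4`.
-/

set_option autoImplicit false
set_option linter.unusedSectionVars false
set_option linter.style.haveILetI false
set_option maxHeartbeats 800000

open scoped Classical
open Polynomial

namespace Cfsg.Agent.PrimePowOrbit

/-- A finite field generated by a root of unity of two-power order conjugate to a power that is `3` mod `4`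
has degree at most two. -/
theorem finrank_le_two {q : ℕ} [Fact q.Prime] (hq2 : q ≠ 2) {K : Type*} [Field K] [Finite K] [Algebra (ZMod q) K]
    {α : K} {n t : ℕ} (hn : 2 ≤ n) (hα : orderOf α = 2 ^ n) (ht : t % 4 = 3) (htt : α ^ (t * t) = α)
    (τ : K →ₐ[ZMod q] K) (hτ : τ α = α ^ t)
    (hgen : ∀ f g : K →ₐ[ZMod q] K, f α = g α → f = g) : Module.finrank (ZMod q) K ≤ 2 := by
  haveI : FiniteDimensional (ZMod q) K := Module.Finite.of_finite
  set φ := FiniteField.frobeniusAlgHom (ZMod q) K with hφ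
  have hord : orderOf φ = Module.finrank (ZMod q) K := FiniteField.orderOf_frobeniusAlgHom (ZMod q) K
  have hpow : ∀ k : ℕ, (φ ^ k) α = α ^ q ^ k := by
    intro k
    induction k with
    | zero => simp
    | succ k ih =>
      rw [pow_succ', AlgHom.mul_apply, ih, map_pow, hφ, FiniteField.coe_frobeniusAlgHom]
      simp only [ZMod.card]
      rw [← pow_mul]; ring_nf
  have hkill : ∀ k, α ^ q ^ k = α → Module.finrank (ZMod q) K ∣ k := fun k hk =>
    hord ▸ orderOf_dvd_of_pow_eq_one (hgen _ _ (by rw [hpow, hk]; rfl))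
  obtain ⟨⟨i, _⟩, hi⟩ := (FiniteField.bijective_frobeniusAlgHom_pow (ZMod q) K).2 τ
  have hti : α ^ t = α ^ q ^ i := by rw [← hτ, ← hi]; exact hpow i
  have hα0 : IsUnit α := by
    refine (orderOf_pos_iff.mp (hα ▸ by positivity)).isUnit
  have hmod : ∀ a b : ℕ, α ^ a = α ^ b → a ≡ b [MOD 2 ^ n] := fun a b hab =>
    hα ▸ ((hα0.unit_spec ▸ (orderOf_units (y := hα0.unit)) ▸
      (pow_eq_pow_iff_modEq (x := hα0.unit) (m := b) (n := a)).mp (Units.ext (by simpa using hab))))
  have h4 : q ^ i % 4 = 3 := by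
    have h5 : (4 : ℕ) ∣ 2 ^ n := ⟨2 ^ (n - 2), by rw [show 4 = 2 ^ 2 by norm_num, ← pow_add]; congr 1; omega⟩
    have := ((hmod _ _ hti).of_dvd h5).symm
    rw [Nat.ModEq, ht] at this
    exact this
  have hodd : Odd i := by
    rcases Nat.even_or_odd i with ⟨j, rfl⟩ | h
    · exfalso
      have hqo : q % 2 = 1 := ((Fact.out : q.Prime).eq_two_or_odd).resolve_left hq2
      have h6 : q ^ j % 2 = 1 := by rw [Nat.pow_mod, hqo, one_pow]; rfl
      rw [pow_add, Nat.mul_mod] at h4
      rcases (by omega : q ^ j % 4 = 1 ∨ q ^ j % 4 = 3) with h7 | h7 <;> simp [h7] at h4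
    · exact h
  have h2i : Module.finrank (ZMod q) K ∣ 2 * i := hkill _ (by
    rw [two_mul, pow_add, pow_mul, ← hti, ← pow_mul, mul_comm, pow_mul, ← hti, ← pow_mul, htt])
  have h2n : Module.finrank (ZMod q) K ∣ 2 ^ (n - 1) := hkill _ (by
    have hcop : q.Coprime (2 ^ n) := ((Nat.coprime_primes Fact.out Nat.prime_two).mpr hq2).pow_right n
    have h7 := Nat.ModEq.pow_totient hcop
    rw [Nat.totient_prime_pow Nat.prime_two (by omega)] at h7
    simp only [Nat.reduceSub, mul_one] at h7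
    conv_rhs => rw [← pow_one α]
    rw [← pow_mod_orderOf, ← pow_mod_orderOf α 1, hα, h7])
  obtain ⟨j, -, hj⟩ := (Nat.dvd_prime_pow Nat.prime_two).mp h2n
  rw [hj] at h2i ⊢
  rcases j with _ | _ | j
  · norm_num
  · norm_num
  · exfalso
    obtain ⟨w, rfl⟩ := hodd
    obtain ⟨u, hu⟩ := h2i
    rw [pow_succ, pow_succ] at hu
    have : 2 * w + 1 = 2 * (2 ^ j * u) := by linarith
    omega

namespace Ctx

variable {q : ℕ} [hqF : Fact q.Prime] {p : ℕ} [hpF : Fact p.Prime]
variable {V : Type*} [AddCommGroup V] [Finite V] [Module (ZMod q) V]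
variable {G : Type*} [Group G] [Finite G] [DistribMulAction G V] [FaithfulSMul G V] [SMulCommClass G (ZMod q) V]
variable {P : Sylow p G}

theorem not_dim_two (h : Ctx q p V G P) (hdim : Module.finrank (ZMod q) V ≤ 2) : False := by
  let D : G →* (ZMod q)ˣ := LinearEquiv.det.comp (DistribMulAction.toModuleAut (ZMod q) V)
  have hD : ∀ g, D g = 1 := hom_trivial_of_perfect_comm h.perfect D (fun _ _ => Commute.all _ _)
  obtain ⟨v, hv⟩ := h.exists_ne_zero
  have hstab : ∀ g : G, g • v = v → g = 1 := by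
    intro g hg
    refine FaithfulSMul.eq_of_smul_eq_smul (α := V) fun w => ?_
    rw [one_smul]
    by_contra hne
    have hli : LinearIndependent (ZMod q) ![v, w] := by
      refine (LinearIndependent.pair_iff' hv).mpr fun a ha => hne ?_
      rw [← ha, smul_comm, hg]
    have hd2 : Module.finrank (ZMod q) V = 2 := le_antisymm hdim (by
      simpa using hli.fintype_card_le_finrank)
    let B := basisOfLinearIndependentOfCardEqFinrank hli (by rw [hd2, Fintype.card_fin])
    have hB0 : B 0 = v := by simp [B]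
    have hB1 : B 1 = w := by simp [B]
    let T : V →ₗ[ZMod q] V := DistribSMul.toLinearMap (ZMod q) V g
    have hdet : LinearMap.det T = 1 := by
      have h0 := congrArg Units.val (hD g)
      simp only [D, MonoidHom.comp_apply, LinearEquiv.coe_det, Units.val_one] at h0
      exact h0
    rw [← LinearMap.det_toMatrix B, Matrix.det_fin_two] at hdet
    have h00 : LinearMap.toMatrix B B T 0 0 = 1 := by
      rw [LinearMap.toMatrix_apply, hB0, show T v = v from hg, ← hB0, B.repr_self, Finsupp.single_eq_same]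
    have h10 : LinearMap.toMatrix B B T 1 0 = 0 := by
      rw [LinearMap.toMatrix_apply, hB0, show T v = v from hg, ← hB0, B.repr_self, Finsupp.single_eq_of_ne (by decide)]
    rw [h00, h10, mul_zero, sub_zero, one_mul] at hdet
    set a := LinearMap.toMatrix B B T 0 1 with ha
    have hw : g • w = a • v + w := by
      have := B.sum_repr (T w)
      rw [Fin.sum_univ_two, hB0, hB1] at this
      rw [ha, LinearMap.toMatrix_apply, hB1]
      rw [LinearMap.toMatrix_apply, hB1] at hdet
      rw [hdet, one_smul] at this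
      exact this.symm
    have hiter : ∀ k : ℕ, g ^ k • w = (k : ZMod q) • a • v + w := by
      intro k
      induction k with
      | zero => simp
      | succ k ih =>
        rw [pow_succ', mul_smul, ih, smul_add, hw, smul_comm g, smul_comm g, hg]
        push_cast
        rw [add_smul, one_smul, add_assoc]
    have := hiter (Nat.card G)
    rw [pow_card_eq_one', one_smul, right_eq_add, smul_eq_zero] at this
    rcases this with h0 | h0
    · exact h.coprime ((ZMod.natCast_eq_zero_iff _ _).mp h0)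
    · rw [h0, zero_add] at hw
      exact hne hw
  refine h.not_solvable ?_
  have htop : (P : Subgroup G) = ⊤ := top_unique fun g _ => by
    obtain ⟨s, hs, hsv⟩ := h.orbit_eq g v
    have := hstab (s⁻¹ * g) (by rw [mul_smul, hsv, inv_smul_smul])
    rwa [← inv_mul_eq_one.mp this]
  have hGp : IsPGroup p G := fun g => by
    obtain ⟨k, hk⟩ := P.isPGroup' ⟨g, htop ▸ Subgroup.mem_top g⟩
    exact ⟨k, congrArg Subtype.val hk⟩
  haveI := hGp.isNilpotent
  infer_instance

theorem no_index_two (h : Ctx q p V G P) (hp2 : p = 2) (hdata : IndexTwoData (P : Subgroup G)) : False := by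
  obtain ⟨⟨c, hcP⟩, ⟨s, hsP⟩, n, t, hn, ho, hsc, h4, hidx, hsC⟩ := hdata
  rw [← Subgroup.orderOf_coe] at ho
  replace ho : orderOf c = 2 ^ n := ho
  replace hsc : s * c * s⁻¹ = c ^ t := congrArg Subtype.val hsc
  subst hp2
  have hq2 : q ≠ 2 := fun h0 => h.pq h0.symm
  -- decomposition of the Sylow subgroup
  have hPdec : ∀ g ∈ (P : Subgroup G), g ∈ Subgroup.zpowers c ∨ ∃ g' ∈ Subgroup.zpowers c, g = s * g' := by
    intro g hg
    by_cases hgc : (⟨g, hg⟩ : (P : Subgroup G)) ∈ Subgroup.zpowers (⟨c, hcP⟩ : (P : Subgroup G))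
    · obtain ⟨i, hi⟩ := Subgroup.mem_zpowers_iff.mp hgc
      exact Or.inl ⟨i, congrArg Subtype.val hi⟩
    · have := (Subgroup.mul_mem_iff_of_index_two hidx (a := (⟨s, hsP⟩ : (P : Subgroup G))⁻¹) (b := ⟨g, hg⟩)).mpr
        (iff_of_false (fun hh => hsC (inv_mem_iff.mp hh)) hgc)
      obtain ⟨i, hi⟩ := Subgroup.mem_zpowers_iff.mp this
      refine Or.inr ⟨c ^ i, ⟨i, rfl⟩, ?_⟩
      rw [show c ^ i = s⁻¹ * g from congrArg Subtype.val hi, mul_inv_cancel_left]
  have hs2 : s * s ∈ Subgroup.zpowers c := by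
    rcases hPdec _ (mul_mem hsP hsP) with h1 | ⟨g', hg', he⟩
    · exact h1
    · exfalso
      rw [mul_right_inj] at he
      obtain ⟨i, hi⟩ := Subgroup.mem_zpowers_iff.mp (he ▸ hg' : s ∈ Subgroup.zpowers c)
      exact hsC ⟨i, Subtype.ext hi⟩
  have hsci : ∀ i : ℤ, s * c ^ i * s⁻¹ = c ^ (t * i) := fun i => by rw [← conj_zpow, hsc, zpow_mul]
  let C : Module.End (ZMod q) V := DistribSMul.toLinearMap (ZMod q) V c
  have hC : ∀ v, C v = c • v := fun _ => rfl
  have hCinv : ∀ (W : Submodule (ZMod q) V), (∀ w ∈ W, c • w ∈ W) → ∀ g ∈ Subgroup.zpowers c, ∀ w ∈ W, g • w ∈ W := by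
    intro W hW g hg
    obtain ⟨i, rfl⟩ := (isOfFinOrder_of_finite c).mem_powers_iff_mem_zpowers.mpr hg
    show ∀ w ∈ W, c ^ i • w ∈ W
    induction i with
    | zero => intro w hw; rwa [pow_zero, one_smul]
    | succ i ih => intro w hw; rw [pow_succ', mul_smul]; exact hW _ (ih (Subgroup.npow_mem_zpowers c i) w hw)
  -- a minimal invariant subspace
  let S : Finset (Submodule (ZMod q) V) := Set.Finite.toFinset (Set.toFinite {W | W ≠ ⊥ ∧ ∀ w ∈ W, c • w ∈ W})
  obtain ⟨v, hv⟩ := h.exists_ne_zero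
  haveI : Nontrivial V := ⟨⟨v, 0, hv⟩⟩
  obtain ⟨W, hWS, hWmin⟩ := S.exists_minimal ⟨⊤, by simp [S]⟩
  simp only [S, Set.Finite.mem_toFinset, Set.mem_setOf_eq] at hWS hWmin
  obtain ⟨hWne, hWc⟩ := hWS
  obtain ⟨w₀, hw₀, hw₀0⟩ := Submodule.exists_mem_ne_zero_of_ne_bot hWne
  let sL : V →ₗ[ZMod q] V := DistribSMul.toLinearMap (ZMod q) V s
  set W' := W.map sL with hW'
  have hW'c : ∀ w ∈ W', c • w ∈ W' := by
    rintro _ ⟨w, hw, rfl⟩
    refine ⟨(s⁻¹ * c * s) • w, hCinv W hWc _ ?_ w hw, ?_⟩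
    · obtain ⟨i, hi⟩ := Subgroup.mem_zpowers_iff.mp hs2
      have : s⁻¹ * c * s = c ^ t := by
        calc s⁻¹ * c * s = s⁻¹ * ((s * s) * c * (s * s)⁻¹) * s := by
              rw [← hi, (((Commute.refl c).zpow_left i)).eq, mul_inv_cancel_right]
          _ = s * c * s⁻¹ := by group
          _ = c ^ t := hsc
      rw [this]; exact ⟨t, rfl⟩
    · show s • (s⁻¹ * c * s) • w = c • s • w
      rw [← mul_smul, ← mul_smul, ← mul_assoc, ← mul_assoc, mul_inv_cancel, one_mul]
  have hW'top : W'.map sL ≤ W := by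
    rintro _ ⟨_, ⟨w, hw, rfl⟩, rfl⟩
    show s • s • w ∈ W
    rw [← mul_smul]
    exact hCinv W hWc _ hs2 w hw
  by_cases hinter : W ⊓ W' = ⊥
  · -- two blocks
    refine h.no_blocks (ι := Bool) Fintype.card_bool (fun b => (cond b W W').toAddSubgroup) ?_ ?_ ?_
    · intro b
      cases b
      · exact ⟨s • w₀, ⟨w₀, hw₀, rfl⟩, fun h0 => hw₀0 (by simpa using congrArg (fun x => s⁻¹ • x) h0)⟩
      · exact ⟨w₀, hw₀, hw₀0⟩
    · intro f hf hsum
      rw [Fintype.sum_bool] at hsum
      have h1 : f true ∈ W ⊓ W' := ⟨hf true, by rw [eq_neg_of_add_eq_zero_left hsum]; exact neg_mem (hf false)⟩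
      rw [hinter, Submodule.mem_bot] at h1
      intro b
      cases b
      · rwa [h1, zero_add] at hsum
      · exact h1
    · intro g hg b
      rcases hPdec g hg with h1 | ⟨g', hg', rfl⟩
      · refine ⟨b, fun w hw => ?_⟩
        cases b
        · exact hCinv W' hW'c g h1 w hw
        · exact hCinv W hWc g h1 w hw
      · refine ⟨!b, fun w hw => ?_⟩
        rw [mul_smul]
        cases b
        · exact hW'top ⟨_, hCinv W' hW'c g' hg' w hw, rfl⟩
        · exact ⟨_, hCinv W hWc g' hg' w hw, rfl⟩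
  -- irreducible for the cyclic subgroup
  have hWle : W ≤ W' := inf_eq_left.mp (le_antisymm inf_le_left
    (hWmin (y := W ⊓ W') ⟨hinter, fun w hw => ⟨hWc w hw.1, hW'c w hw.2⟩⟩ inf_le_left))
  have hWW : W' = W := by
    have h1 : Nat.card W' ≤ Nat.card W := by
      refine Nat.card_le_card_of_surjective (fun w : W => (⟨sL w, w, w.2, rfl⟩ : W')) ?_
      rintro ⟨_, w, hw, rfl⟩
      exact ⟨⟨w, hw⟩, rfl⟩
    exact (SetLike.ext' (Set.eq_of_subset_of_ncard_le (s := (W : Set V)) (t := (W' : Set V)) hWle h1 (Set.toFinite _))).symm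
  have hWtop : W = ⊤ := by
    have := h.bot_or_top_eq W.toAddSubgroup (fun g hg w hw => by
      rcases hPdec g hg with h1 | ⟨g', hg', rfl⟩
      · exact hCinv W hWc g h1 w hw
      · rw [mul_smul]; exact hWW.le ⟨_, hCinv W hWc g' hg' w hw, rfl⟩) hw₀ hw₀0
    exact eq_top_iff.mpr fun w _ => (this ▸ AddSubgroup.mem_top w : w ∈ W.toAddSubgroup)
  have hirr : ∀ U : Submodule (ZMod q) V, (∀ w ∈ U, c • w ∈ U) → U = ⊥ ∨ U = ⊤ := fun U hU =>
    or_iff_not_imp_left.mpr fun hne => top_le_iff.mp (hWtop ▸ hWmin (y := U) ⟨hne, hU⟩ (hWtop ▸ le_top))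
  -- the field generated by `c`
  haveI : Module.Finite (ZMod q) V := Module.Finite.of_finite
  set μ := minpoly (ZMod q) C with hμ
  have hint : IsIntegral (ZMod q) C := Algebra.IsIntegral.isIntegral C
  have hCne : ∀ a : (ZMod q)[X], aeval C a ≠ 0 → Function.Injective (aeval C a) := by
    intro a ha
    rw [← LinearMap.ker_eq_bot]
    refine (hirr _ fun w hw => ?_).resolve_right fun ht => ha (LinearMap.ker_eq_top.mp ht)
    rw [LinearMap.mem_ker] at hw ⊢
    rw [← hC, ← Module.End.mul_apply,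
      show aeval C a * C = C * aeval C a by simpa using congrArg (aeval C) (mul_comm a X),
      Module.End.mul_apply, hw, map_zero]
  haveI : Nontrivial (Module.End (ZMod q) V) :=
    ⟨⟨1, 0, fun h0 => hv (by simpa using LinearMap.congr_fun h0 v)⟩⟩
  have hμirr : Irreducible μ := by
    refine irreducible_iff.mpr ⟨minpoly.not_isUnit _ _, fun a b hab => ?_⟩
    have hμ0 : μ ≠ 0 := minpoly.ne_zero hint
    by_cases ha : aeval C a = 0
    · right
      obtain ⟨u, hu⟩ := minpoly.dvd (ZMod q) C ha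
      refine IsUnit.of_mul_eq_one_right u (mul_left_cancel₀ hμ0 ?_)
      calc μ * (u * b) = (μ * u) * b := (mul_assoc _ _ _).symm
        _ = μ := by rw [← hu, ← hab]
        _ = μ * 1 := (mul_one _).symm
    · left
      have hb : aeval C b = 0 := by
        have h0 : aeval C a * aeval C b = 0 := by rw [← map_mul, ← hab, minpoly.aeval]
        refine LinearMap.ext fun w => hCne a ha ?_
        rw [← Module.End.mul_apply, h0]; simp
      obtain ⟨u, hu⟩ := minpoly.dvd (ZMod q) C hb
      refine IsUnit.of_mul_eq_one u (mul_left_cancel₀ hμ0 ?_)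
      calc μ * (a * u) = a * (μ * u) := by ring
        _ = μ := by rw [← hu, ← hab]
        _ = μ * 1 := (mul_one _).symm
  haveI := Fact.mk hμirr
  haveI : Module.Finite (ZMod q) (AdjoinRoot μ) := (minpoly.monic hint).finite_adjoinRoot
  haveI : Finite (AdjoinRoot μ) := Module.finite_of_finite (ZMod q)
  set α := AdjoinRoot.root μ with hα
  have htrans : ∀ f : (ZMod q)[X], aeval α f = 0 ↔ aeval C f = 0 := fun f => by
    rw [hα, AdjoinRoot.aeval_eq, AdjoinRoot.mk_eq_zero, hμ, minpoly.dvd_iff]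
  have hCpow : ∀ k : ℕ, C ^ k = DistribSMul.toLinearMap (ZMod q) V (c ^ k) := by
    intro k
    induction k with
    | zero => ext w; rw [pow_zero, pow_zero, Module.End.one_apply]; exact (one_smul G w).symm
    | succ k ih => ext w; rw [pow_succ', Module.End.mul_apply, ih, pow_succ']; exact (mul_smul c (c ^ k) w).symm
  have hpeq : ∀ a b : ℕ, α ^ a = α ^ b ↔ c ^ a = c ^ b := by
    intro a b
    have := htrans (X ^ a - X ^ b)
    simp only [map_sub, map_pow, aeval_X, sub_eq_zero] at this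
    rw [this, hCpow, hCpow]
    refine ⟨fun he => FaithfulSMul.eq_of_smul_eq_smul (α := V) fun w => LinearMap.congr_fun he w, fun he => by rw [he]⟩
  have hαo : orderOf α = 2 ^ n := by
    rw [← ho, orderOf_eq_iff (orderOf_pos c)]
    refine ⟨?_, fun m hm hm0 hm1 => ?_⟩
    · rw [← pow_zero α, hpeq, pow_orderOf_eq_one, pow_zero]
    · rw [← pow_zero α, hpeq, pow_zero] at hm1
      exact Nat.not_le.mpr hm (Nat.le_of_dvd hm0 (orderOf_dvd_of_pow_eq_one hm1))
  -- the exponent as a natural number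
  obtain ⟨t', ht'⟩ : ∃ t' : ℕ, (t' : ℤ) = t % ((2 : ℤ) ^ n) :=
    ⟨(t % ((2 : ℤ) ^ n)).toNat, Int.toNat_of_nonneg (Int.emod_nonneg _ (by positivity))⟩
  have hct : c ^ t' = c ^ t := by
    rw [← zpow_natCast, ht', ← zpow_mod_orderOf c t, ho]; push_cast; rfl
  have ht4 : t' % 4 = 3 := by
    have h5 : (4 : ℤ) ∣ (2 : ℤ) ^ n := ⟨2 ^ (n - 2), by
      rw [show (4 : ℤ) = 2 ^ 2 by norm_num, ← pow_add]; congr 1; omega⟩
    have h6 := Int.emod_emod_of_dvd t h5
    rw [← ht'] at h6
    omega
  have htt : α ^ (t' * t') = α := by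
    conv_rhs => rw [← pow_one α]
    rw [hpeq, pow_one, pow_mul, hct, ← zpow_natCast, ← zpow_mul]
    obtain ⟨i, hi⟩ := Subgroup.mem_zpowers_iff.mp hs2
    have h7 : s * (s * c * s⁻¹) * s⁻¹ = c := by
      calc s * (s * c * s⁻¹) * s⁻¹ = (s * s) * c * (s * s)⁻¹ := by group
        _ = c := by rw [← hi, (((Commute.refl c).zpow_left i)).eq, mul_inv_cancel_right]
    rw [hsc, hsci] at h7
    have h8 : c ^ ((t' : ℤ) * t) = c ^ (t * t) := by rw [zpow_mul, zpow_natCast, hct, ← zpow_mul]
    rw [mul_comm t, h8, h7]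
  let conjS : Module.End (ZMod q) V →ₐ[ZMod q] Module.End (ZMod q) V :=
    AlgHom.ofLinearMap
      { toFun := fun f => sL * f * DistribSMul.toLinearMap (ZMod q) V s⁻¹
        map_add' := fun f f' => by rw [mul_add, add_mul]
        map_smul' := fun a f => by simp [smul_mul_assoc, mul_smul_comm] }
      (by ext w; exact smul_inv_smul s w)
      (by intro f f'; ext w; exact (congrArg (fun x => s • f x) (inv_smul_smul s (f' (s⁻¹ • w)))).symm)
  have hroot : aeval (α ^ t') μ = 0 := by
    have h9 : aeval C (μ.comp (X ^ t')) = 0 := by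
      rw [aeval_comp, map_pow, aeval_X]
      have : C ^ t' = conjS C := by
        rw [hCpow, hct, ← hsc]
        ext w
        show (s * c * s⁻¹) • w = s • c • s⁻¹ • w
        rw [mul_smul, mul_smul]
      rw [this, aeval_algHom_apply, hμ, minpoly.aeval, map_zero]
    have := (htrans _).mpr h9
    rwa [aeval_comp, map_pow, aeval_X] at this
  let τ : AdjoinRoot μ →ₐ[ZMod q] AdjoinRoot μ :=
    AdjoinRoot.liftAlgHom μ (Algebra.ofId _ _) (α ^ t') (by simpa [aeval_def] using hroot)
  have hτ : τ α = α ^ t' := by simp [τ, hα]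
  have hK : Module.finrank (ZMod q) (AdjoinRoot μ) ≤ 2 :=
    finrank_le_two hq2 hn hαo ht4 htt τ hτ fun f g => AdjoinRoot.algHom_ext
  have hdeg : Module.finrank (ZMod q) (AdjoinRoot μ) = μ.natDegree := by
    rw [(AdjoinRoot.powerBasis hμirr.ne_zero).finrank, AdjoinRoot.powerBasis_dim]
  refine h.not_dim_two (le_trans ?_ (hdeg ▸ hK))
  let E : (Fin μ.natDegree → ZMod q) →ₗ[ZMod q] V :=
    Fintype.linearCombination (ZMod q) (fun i : Fin μ.natDegree => (C ^ (i : ℕ)) w₀)
  have hE : ∀ f : (ZMod q)[X], aeval C f w₀ ∈ LinearMap.range E := by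
    intro f
    have h10 : aeval C f = aeval C (f %ₘ μ) := (aeval_modByMonic_eq_self_of_root (minpoly.aeval _ _)).symm
    rw [h10, aeval_eq_sum_range' (n := μ.natDegree)
      (natDegree_modByMonic_lt f (minpoly.monic hint) hμirr.ne_one), LinearMap.sum_apply]
    refine ⟨fun i => (f %ₘ μ).coeff i, ?_⟩
    simp only [E, Fintype.linearCombination_apply, LinearMap.smul_apply]
    exact Fin.sum_univ_eq_sum_range (fun i => (f %ₘ μ).coeff i • (C ^ i) w₀) _
  let U : Submodule (ZMod q) V :=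
    { carrier := {w | ∃ f : (ZMod q)[X], aeval C f w₀ = w}
      zero_mem' := ⟨0, by simp⟩
      add_mem' := by rintro a b ⟨f, rfl⟩ ⟨f', rfl⟩; exact ⟨f + f', by simp⟩
      smul_mem' := by rintro a w ⟨f, rfl⟩; exact ⟨a • f, by simp⟩ }
  have hU : U = ⊤ := by
    refine (hirr U ?_).resolve_left fun hb => hw₀0 ?_
    · rintro w ⟨f, rfl⟩
      exact ⟨X * f, by rw [map_mul, aeval_X]; rfl⟩
    · exact (Submodule.mem_bot _).mp (hb ▸ (show w₀ ∈ U from ⟨1, by simp⟩))
  have hsurj : Function.Surjective E := fun w => by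
    obtain ⟨f, hf⟩ := (hU ▸ Submodule.mem_top : w ∈ U)
    obtain ⟨x, hx⟩ := hE f
    exact ⟨x, hx.trans hf⟩
  simpa using E.finrank_le_finrank_of_surjective hsurj

end Ctx

end Cfsg.Agent.PrimePowOrbit
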