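import Cfsg.Agent.Lib.Transfer.PrimePowOrbit.Lines
import Cfsg.Agent.Lib.Transfer.PrimePowOrbit.Cyclic
import Cfsg.Agent.Lib.Transfer.PrimePowOrbit.TwoDim

/-!
A coprime linear group all of whose orbits have `p`-power length is soluble.
-/

set_option autoImplicit false
set_option linter.unusedSectionVars false
set_option linter.style.haveILetI false

universe u

namespace Cfsg.Agent.PrimePowOrbit

variable {q : ℕ} [hqF : Fact q.Prime] {p : ℕ} [hpF : Fact p.Prime]

theorem range_powOrbits {A : Type*} [Group A] [Finite A] {V : Type*} [MulAction A V] {X : Type*} {H : Type*} [Group H]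
    [MulAction H X] (ρ : A →* H) (π : V → X) (hπ : Function.Surjective π) (hρ : ∀ a v, ρ a • π v = π (a • v))
    (horb : PowOrbits p A V) : PowOrbits p ρ.range X := by
  intro x
  obtain ⟨v, rfl⟩ := hπ x
  obtain ⟨k, hk⟩ := horb v
  have hle : MulAction.stabilizer A v ≤ (MulAction.stabilizer ρ.range (π v)).comap ρ.rangeRestrict := by
    intro a ha
    rw [Subgroup.mem_comap, MulAction.mem_stabilizer_iff]
    show ρ a • π v = π v
    rw [hρ, MulAction.mem_stabilizer_iff.mp ha]
  have := Subgroup.index_dvd_of_le hle
  rw [Subgroup.index_comap_of_surjective _ ρ.rangeRestrict_surjective, hk] at this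
  obtain ⟨j, -, hj⟩ := (Nat.dvd_prime_pow hpF.out).mp this
  exact ⟨j, hj⟩

theorem aux (hpq : p ≠ q) : ∀ (n : ℕ) (V : Type u) [AddCommGroup V] [Finite V] [Module (ZMod q) V]
    (A : Subgroup (V ≃ₗ[ZMod q] V)), Nat.card A * Nat.card V ≤ n → ¬ q ∣ Nat.card A → PowOrbits p A V →
    Group.IsSolvable A := by
  intro n
  induction n with
  | zero =>
    intro V _ _ _ A hn
    haveI : Finite (V ≃ₗ[ZMod q] V) := Finite.of_injective _ (DFunLike.coe_injective (F := V ≃ₗ[ZMod q] V))
    exact absurd hn (by have := Nat.mul_pos (Nat.card_pos (α := A)) (Nat.card_pos (α := V)); omega)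
  | succ n ih =>
    intro V _ _ _ A hn hqA horb
    haveI : Finite (V ≃ₗ[ZMod q] V) := Finite.of_injective _ (DFunLike.coe_injective (F := V ≃ₗ[ZMod q] V))
    by_contra hsol
    haveI : Nontrivial A := by
      by_contra h0
      rw [not_nontrivial_iff_subsingleton] at h0
      exact hsol inferInstance
    -- proper normal subgroups
    have hmin : ∀ N : Subgroup A, N.Normal → N ≠ ⊤ → Group.IsSolvable N := by
      intro N hN hNt
      have hcard : Nat.card (N.map A.subtype) = Nat.card N :=
        Subgroup.card_map_of_injective A.subtype_injective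
      have hlt : Nat.card N < Nat.card A := by
        rcases lt_or_eq_of_le (Subgroup.card_le_card_group N) with h | h
        · exact h
        · exact absurd (Subgroup.eq_top_of_card_eq N h) hNt
      haveI := hN
      have := ih V (N.map A.subtype) ?_ ?_ ?_
      · exact Group.isSolvable_of_isSolvable_injective (f := (N.equivMapOfInjective A.subtype A.subtype_injective).toMonoidHom)
          (N.equivMapOfInjective A.subtype A.subtype_injective).injective
      · rw [hcard]
        have := Nat.mul_lt_mul_of_pos_right hlt (Nat.card_pos (α := V))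
        omega
      · rw [hcard]
        exact fun hd => hqA (hd.trans (Subgroup.card_subgroup_dvd_card N))
      · intro v
        obtain ⟨k, hk⟩ := horb v
        have h1 := Transfer.Kazarin.relIndex_dvd_index (MulAction.stabilizer A v) N
        rw [hk] at h1
        obtain ⟨j, -, hj⟩ := (Nat.dvd_prime_pow hpF.out).mp h1
        refine ⟨j, ?_⟩
        have h2 : MulAction.stabilizer (N.map A.subtype) v =
            (MulAction.stabilizer (V ≃ₗ[ZMod q] V) v).subgroupOf (N.map A.subtype) := by
          ext x; rfl
        have h3 : (MulAction.stabilizer A v) = (MulAction.stabilizer (V ≃ₗ[ZMod q] V) v).comap A.subtype := by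
          ext x; rfl
        rw [h2, ← Subgroup.relIndex, ← hj, h3, Subgroup.relIndex_comap]
    have hperf : commutator A = ⊤ := by
      by_contra hne
      haveI := hmin (commutator A) inferInstance hne
      exact hsol (Group.isSolvable_of_ker_le_range (commutator A).subtype (Abelianization.of (G := A)) fun a ha =>
        ⟨⟨a, by rwa [← Abelianization.ker_of A]⟩, rfl⟩)
    obtain ⟨P⟩ : Nonempty (Sylow p A) := inferInstance
    -- reducible case
    by_cases hirr : ∀ W : AddSubgroup V, (∀ s ∈ (P : Subgroup A), ∀ w ∈ W, s • w ∈ W) → W = ⊥ ∨ W = ⊤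
    swap
    · push Not at hirr
      obtain ⟨W₀, hW₀, hWb, hWt⟩ := hirr
      let W : Submodule (ZMod q) V := AddSubgroup.toZModSubmodule q W₀
      have hWA : ∀ a : A, ∀ w ∈ W, a • w ∈ W := by
        intro a w hw
        obtain ⟨k, hk⟩ := horb w
        obtain ⟨s, hs, hsa⟩ := Transfer.Kazarin.exists_sylow_mem (MulAction.stabilizer A w) hk P a
        rw [MulAction.mem_stabilizer_iff, mul_smul, inv_smul_eq_iff] at hsa
        rw [hsa]
        exact hW₀ s hs w hw
      have hWmap : ∀ a : A, W.map (DistribMulAction.toLinearEquiv (ZMod q) V a : V →ₗ[ZMod q] V) = W := by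
        intro a
        refine le_antisymm ?_ fun w hw => ⟨a⁻¹ • w, hWA a⁻¹ w hw, smul_inv_smul a w⟩
        rintro _ ⟨w, hw, rfl⟩
        exact hWA a w hw
      let ρ₁ : A →* (W ≃ₗ[ZMod q] W) :=
        { toFun := fun a =>
            { toFun := fun w => ⟨a • (w : V), hWA a w w.2⟩
              map_add' := fun w w' => Subtype.ext (smul_add a _ _)
              map_smul' := fun c w => Subtype.ext (smul_comm a c (w : V))
              invFun := fun w => ⟨a⁻¹ • (w : V), hWA a⁻¹ w w.2⟩
              left_inv := fun w => Subtype.ext (inv_smul_smul a _)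
              right_inv := fun w => Subtype.ext (smul_inv_smul a _) }
          map_one' := LinearEquiv.ext fun w => Subtype.ext (one_smul A (w : V))
          map_mul' := fun a b => LinearEquiv.ext fun w => Subtype.ext (mul_smul a b (w : V)) }
      let ρ₂ : A →* ((V ⧸ W) ≃ₗ[ZMod q] (V ⧸ W)) :=
        { toFun := fun a => Submodule.Quotient.equiv W W (DistribMulAction.toLinearEquiv (ZMod q) V a) (hWmap a)
          map_one' := LinearEquiv.ext fun x => by
            obtain ⟨w, rfl⟩ := Submodule.Quotient.mk_surjective W x
            simp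
          map_mul' := fun a b => LinearEquiv.ext fun x => by
            obtain ⟨w, rfl⟩ := Submodule.Quotient.mk_surjective W x
            show Submodule.Quotient.mk ((a * b) • w) = Submodule.Quotient.mk (a • b • w)
            rw [mul_smul] }
      haveI : Finite (V ⧸ W) := Quotient.finite _
      haveI : Finite W := Subtype.finite
      have hcard := W.card_eq_card_quotient_mul_card
      have hW1 : 1 < Nat.card W := by
        haveI : Nontrivial W := by
          obtain ⟨w, hw⟩ := AddSubgroup.ne_bot_iff_exists_ne_zero.mp hWb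
          exact ⟨⟨⟨w.1, w.2⟩, 0, fun h0 => hw (Subtype.ext (congrArg Subtype.val h0 :))⟩⟩
        exact Finite.one_lt_card
      have hQ1 : 1 < Nat.card (V ⧸ W) := by
        haveI : Nontrivial (V ⧸ W) := Submodule.Quotient.nontrivial_iff.mpr fun h0 =>
          hWt (by
            rw [AddSubgroup.eq_top_iff']
            intro x
            exact (h0 ▸ Submodule.mem_top : x ∈ W))
        exact Finite.one_lt_card
      have hWlt : Nat.card W < Nat.card V := by
        rw [hcard]
        nlinarith [Nat.card_pos (α := W)]
      have hQlt : Nat.card (V ⧸ W) < Nat.card V := by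
        rw [hcard]
        nlinarith [Nat.card_pos (α := V ⧸ W)]
      haveI : Finite (W ≃ₗ[ZMod q] W) := Finite.of_injective _ (DFunLike.coe_injective (F := W ≃ₗ[ZMod q] W))
      haveI : Finite ((V ⧸ W) ≃ₗ[ZMod q] (V ⧸ W)) :=
        Finite.of_injective _ (DFunLike.coe_injective (F := (V ⧸ W) ≃ₗ[ZMod q] (V ⧸ W)))
      have hr₁ : Nat.card ρ₁.range ∣ Nat.card A :=
        Subgroup.card_dvd_of_surjective ρ₁.rangeRestrict ρ₁.rangeRestrict_surjective
      have hr₂ : Nat.card ρ₂.range ∣ Nat.card A :=
        Subgroup.card_dvd_of_surjective ρ₂.rangeRestrict ρ₂.rangeRestrict_surjective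
      haveI := ih W ρ₁.range (by
          have := Nat.mul_le_mul (Nat.le_of_dvd Nat.card_pos hr₁) hWlt
          have := Nat.card_pos (α := ρ₁.range)
          nlinarith) (fun hd => hqA (hd.trans hr₁)) (by
        intro w
        obtain ⟨k, hk⟩ := horb (w : V)
        have hle : MulAction.stabilizer A (w : V) ≤ (MulAction.stabilizer ρ₁.range w).comap ρ₁.rangeRestrict :=
          fun a ha => Subtype.ext (MulAction.mem_stabilizer_iff.mp ha)
        have := Subgroup.index_dvd_of_le hle
        rw [Subgroup.index_comap_of_surjective _ ρ₁.rangeRestrict_surjective, hk] at this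
        obtain ⟨j, -, hj⟩ := (Nat.dvd_prime_pow hpF.out).mp this
        exact ⟨j, hj⟩)
      haveI := ih (V ⧸ W) ρ₂.range (by
          have := Nat.mul_le_mul (Nat.le_of_dvd Nat.card_pos hr₂) hQlt
          have := Nat.card_pos (α := ρ₂.range)
          nlinarith) (fun hd => hqA (hd.trans hr₂))
        (range_powOrbits ρ₂ Submodule.Quotient.mk (Submodule.Quotient.mk_surjective W) (fun _ _ => rfl) horb)
      refine hsol (Group.isSolvable_of_isSolvable_injective (f := ρ₁.rangeRestrict.prod ρ₂.rangeRestrict) ?_)
      rw [← MonoidHom.ker_eq_bot_iff, Subgroup.eq_bot_iff_forall]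
      intro a ha
      rw [MonoidHom.mem_ker, MonoidHom.prod_apply, Prod.mk_eq_one] at ha
      have h1 : ∀ w ∈ W, a • w = w := fun w hw =>
        congrArg Subtype.val (LinearEquiv.congr_fun (congrArg Subtype.val ha.1) ⟨w, hw⟩)
      refine FaithfulSMul.eq_of_smul_eq_smul (α := V) fun v => ?_
      have h2 : a • v - v ∈ W := (Submodule.Quotient.eq W).mp
        (LinearEquiv.congr_fun (congrArg Subtype.val ha.2) (Submodule.Quotient.mk v))
      have hiter : ∀ k : ℕ, a ^ k • v = (k : ZMod q) • (a • v - v) + v := by
        intro k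
        induction k with
        | zero => simp
        | succ k ihk =>
          rw [pow_succ', mul_smul, ihk, smul_add, smul_comm, h1 _ h2]
          push_cast
          rw [add_smul, one_smul, add_assoc, sub_add_cancel]
      have := hiter (Nat.card A)
      rw [pow_card_eq_one', one_smul, right_eq_add, smul_eq_zero] at this
      rw [one_smul]
      rcases this with h0 | h0
      · exact absurd ((ZMod.natCast_eq_zero_iff _ _).mp h0) hqA
      · exact sub_eq_zero.mp h0
    -- irreducible case
    have hctx : Ctx q p V A P := ⟨hpq, hqA, horb, hperf, inferInstance, hirr, hmin⟩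
    rcases shape P.isPGroup' with ⟨z, e, hzc, hzo, he, hez, hs⟩ | hcyc | ⟨hp2, hdata⟩
    · refine hctx.no_rank_two z.2 e.2 (fun s hs' => congrArg Subtype.val (Subgroup.mem_center_iff.mp hzc ⟨s, hs'⟩))
        (by rw [Subgroup.orderOf_coe]; exact hzo) (by exact_mod_cast congrArg Subtype.val he) (fun hm => hez ?_)
        (fun s hs' => (hs ⟨s, hs'⟩).imp fun k hk => congrArg Subtype.val hk)
      obtain ⟨i, hi⟩ := Subgroup.mem_zpowers_iff.mp hm
      exact ⟨i, Subtype.ext hi⟩
    · exact hctx.no_cyclic hcyc
    · exact hctx.no_index_two hp2 hdata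

/-- A coprime linear group all of whose orbits have `p`-power length is soluble. -/
theorem isSolvable_range {G : Type*} [Group G] [Finite G] {V : Type u} [AddCommGroup V] [Finite V] [Module (ZMod q) V]
    (hpq : p ≠ q) (ρ : G →* (V ≃ₗ[ZMod q] V)) (hq : ¬ q ∣ Nat.card ρ.range)
    (horb : ∀ v : V, ∃ k, ((MulAction.stabilizer (V ≃ₗ[ZMod q] V) v).comap ρ).index = p ^ k) :
    Group.IsSolvable ρ.range := by
  refine aux hpq _ V ρ.range le_rfl hq fun v => ?_
  obtain ⟨k, hk⟩ := horb v
  refine ⟨k, ?_⟩
  rw [← hk, show ((MulAction.stabilizer (V ≃ₗ[ZMod q] V) v).comap ρ) =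
    (MulAction.stabilizer ρ.range v).comap ρ.rangeRestrict from by ext; rfl,
    Subgroup.index_comap_of_surjective _ ρ.rangeRestrict_surjective]

end Cfsg.Agent.PrimePowOrbit
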